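import Cfsg.Agent.FrobFix.Hyp
import Cfsg.Agent.CentClass.Action

/-!
# Homogeneous components of an elementary abelian group permuted by a Frobenius group
-/

set_option autoImplicit false
set_option linter.style.haveILetI false
set_option linter.unusedSectionVars false

namespace CfsgLib.FrobFix

open Subgroup

universe u v

variable {A : Type v} [Group A] [Finite A] {G : Type u} [Group G] [Finite G]
  {φ : A →* MulAut G} {F H : Subgroup A}

/-- An abelian pair `P`, `V` of coprime exponents. -/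
structure Pair (φ : A →* MulAut G) (s r : ℕ) (V P : Subgroup G) : Prop where
  modV : Mod s V
  modP : Mod r P
  ne : r ≠ s
  norm : ∀ k ∈ P, ∀ v ∈ V, k * v * k⁻¹ ∈ V
  fpfP : ∀ v ∈ V, (∀ k ∈ P, k * v = v * k) → v = 1
  invV : Inv φ V
  invP : Inv φ P

variable {s r : ℕ} {V P : Subgroup G}

/-- The part of `V` centralised by `K`. -/
def comp (V K : Subgroup G) : Subgroup G := V ⊓ centralizer (K : Set G)

theorem mem_comp {K : Subgroup G} {v : G} : v ∈ comp V K ↔ v ∈ V ∧ ∀ k ∈ K, k * v = v * k := by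
  rw [comp, mem_inf, mem_centralizer_iff]; rfl

theorem Pair.coprime (h : Pair φ s r V P) : (Nat.card V).Coprime r := by
  haveI := Fact.mk h.modV.prime
  obtain ⟨k, hk⟩ := IsPGroup.iff_card.1 h.modV.isPGroup
  rw [hk]
  exact ((Nat.coprime_primes h.modV.prime h.modP.prime).2 (Ne.symm h.ne)).pow_left k

theorem Pair.sup_eq (h : Pair φ s r V P) {K L : Subgroup G} (hK : K ≤ P) (hL : L ≤ P)
    (hKc : Nat.card P ≤ r * Nat.card K) (hLK : ¬ L ≤ K) : K ⊔ L = P := by
  haveI := Fact.mk h.modP.prime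
  refine eq_of_le_of_card_ge (sup_le hK hL) (hKc.trans ?_)
  have hlt : K < K ⊔ L := lt_of_le_of_ne le_sup_left fun e => hLK (e ▸ le_sup_right)
  obtain ⟨a, ha⟩ := IsPGroup.iff_card.1 (h.modP.isPGroup.to_le hK)
  obtain ⟨b, hb⟩ := IsPGroup.iff_card.1 (h.modP.isPGroup.to_le (sup_le hK hL))
  have hne : Nat.card K ≠ Nat.card (K ⊔ L : Subgroup G) := fun e => hlt.ne (eq_of_le_of_card_ge le_sup_left e.ge)
  have hle := card_le_of_le (le_sup_left : K ≤ K ⊔ L)
  rw [ha, hb] at hne hle ⊢
  have hab : a < b := by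
    by_contra hba
    exact hne (le_antisymm hle (Nat.pow_le_pow_right h.modP.prime.pos (by omega)))
  rw [← pow_succ']
  exact Nat.pow_le_pow_right h.modP.prime.pos hab

/-- Components at different hyperplanes are independent. -/
theorem Pair.separate (h : Pair φ s r V P) {ι : Type*} [Fintype ι] (K : ι → Subgroup G)
    (hK : ∀ i, K i ≤ P ∧ K i ≠ P ∧ Nat.card P ≤ r * Nat.card (K i)) (hinj : Function.Injective K)
    (x : ι → V) (hx : ∀ i, (x i : G) ∈ comp V (K i))
    (hprod : letI : CommGroup V := { (inferInstance : Group V) with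
        mul_comm := fun y z => Subtype.ext (h.modV.comm _ y.2 _ z.2) };
      ∏ i, x i = 1) (j : ι) : x j = 1 := by
  classical
  letI : CommGroup V := { (inferInstance : Group V) with
    mul_comm := fun y z => Subtype.ext (h.modV.comm _ y.2 _ z.2) }
  letI := Fintype.ofFinite (K j)
  let π : V →* V := MonoidHom.mk'
    (fun v => ∏ k : K j, (⟨(k : G) * v * (k : G)⁻¹, h.norm k ((hK j).1 k.2) v v.2⟩ : V))
    fun y z => by
      rw [← Finset.prod_mul_distrib]
      exact Finset.prod_congr rfl fun k _ => Subtype.ext (by simp [mul_assoc])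
  have hconj : ∀ (a : G) (ha : a ∈ P) (v : V),
      ((π v : V) : G) = a * ((π v : V) : G) * a⁻¹ ↔ a * ((π v : V) : G) = ((π v : V) : G) * a := by
    intro a _ v
    exact ⟨fun e => (eq_mul_inv_iff_mul_eq.1 e).symm, fun e => eq_mul_inv_iff_mul_eq.2 e.symm⟩
  let c : ∀ a ∈ P, V →* V := fun a ha => MonoidHom.mk'
    (fun v => ⟨a * v * a⁻¹, h.norm a ha v v.2⟩) fun y z => Subtype.ext (by simp [mul_assoc])
  have hcπ : ∀ a (ha : a ∈ P) (v : V), c a ha (π v) = π (c a ha v) := by
    intro a ha v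
    show c a ha (∏ k : K j, _) = _
    rw [map_prod]
    refine Finset.prod_congr rfl fun k _ => Subtype.ext ?_
    show a * ((k : G) * v * (k : G)⁻¹) * a⁻¹ = (k : G) * (a * v * a⁻¹) * (k : G)⁻¹
    have e : a * (k : G) = k * a := h.modP.comm a ha k ((hK j).1 k.2)
    calc a * ((k : G) * v * (k : G)⁻¹) * a⁻¹ = (a * k) * v * (a * k)⁻¹ := by group
      _ = _ := by rw [e]; group
  have hπj : ∀ i, i ≠ j → π (x i) = 1 := by
    intro i hij
    refine Subtype.ext (h.fpfP _ (π (x i)).2 fun a ha => ?_)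
    have hi : ∀ b ∈ K i, b * ((π (x i) : V) : G) = (π (x i) : V) * b := by
      intro b hb
      have e : c b ((hK i).1 hb) (x i) = x i := Subtype.ext (by
        show b * (x i : G) * b⁻¹ = x i
        rw [(mem_comp.1 (hx i)).2 b hb, mul_inv_cancel_right])
      have := hcπ b ((hK i).1 hb) (x i)
      rw [e] at this
      exact (hconj b ((hK i).1 hb) _).1 (congrArg Subtype.val this).symm
    have hj : ∀ b ∈ K j, b * ((π (x i) : V) : G) = (π (x i) : V) * b := by
      intro b hb
      refine (hconj b ((hK j).1 hb) _).1 (congrArg Subtype.val (?_ : π (x i) = c b ((hK j).1 hb) (π (x i))))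
      show π (x i) = c b ((hK j).1 hb) (∏ k : K j, _)
      rw [map_prod]
      refine (Fintype.prod_equiv (Equiv.mulLeft (⟨b, hb⟩ : K j)) _ _ fun k => ?_).symm
      exact Subtype.ext (by
        show b * ((k : G) * (x i : G) * (k : G)⁻¹) * b⁻¹ = (b * k) * (x i : G) * (b * k : G)⁻¹
        group)
    have hne : ¬ K j ≤ K i := fun hle => hij (hinj (by
      refine (eq_of_le_of_card_ge hle ?_).symm
      by_contra hlt
      have hP := h.sup_eq (hK j).1 (hK i).1 (hK j).2.2 (fun hle' => hlt (card_le_of_le hle'))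
      exact (hK i).2.1 (by rw [← hP, sup_eq_right.2 hle])))
    have hsup := h.sup_eq (hK i).1 (hK j).1 (hK i).2.2 hne
    have hle : P ≤ centralizer {((π (x i) : V) : G)} := hsup ▸ sup_le
      (fun b hb => mem_centralizer_singleton_iff.2 (hi b hb))
      (fun b hb => mem_centralizer_singleton_iff.2 (hj b hb))
    exact mem_centralizer_singleton_iff.1 (hle ha)
  have h1 := congrArg π hprod
  rw [map_one, map_prod, Finset.prod_eq_single j (fun i _ hij => hπj i hij)
    (fun hj => absurd (Finset.mem_univ _) hj)] at h1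
  have h2 : π (x j) = x j ^ Nat.card (K j) := by
    rw [Nat.card_eq_fintype_card, ← Finset.card_univ, ← Finset.prod_const]
    refine Finset.prod_congr rfl fun k _ => Subtype.ext ?_
    show (k : G) * (x j : G) * (k : G)⁻¹ = x j
    rw [(mem_comp.1 (hx j)).2 k k.2, mul_inv_cancel_right]
  rw [h2] at h1
  haveI := Fact.mk h.modP.prime
  obtain ⟨a, ha⟩ := IsPGroup.iff_card.1 (h.modP.isPGroup.to_le (hK j).1)
  have h3 := pow_gcd_eq_one.2 ⟨(pow_card_eq_one' : x j ^ Nat.card V = 1), h1⟩
  rwa [ha, (h.coprime.pow_right a).gcd_eq_one, pow_one] at h3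

/-- The stabiliser of a subgroup. -/
def stab (φ : A →* MulAut G) (K : Subgroup G) : Subgroup A where
  carrier := {a | ∀ k, φ a k ∈ K ↔ k ∈ K}
  one_mem' k := by simp
  mul_mem' {a b} ha hb k := by rw [map_mul, MulAut.mul_apply, ha, hb]
  inv_mem' {a} ha k := by
    conv_rhs => rw [show k = φ a (φ a⁻¹ k) by
      rw [← MulAut.mul_apply, ← map_mul, mul_inv_cancel, map_one, MulAut.one_apply]]
    exact (ha _).symm

theorem Pair.stab_comp (h : Pair φ s r V P) {K : Subgroup G} {a : A} (ha : a ∈ stab φ K) {w : G}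
    (hw : w ∈ comp V K) : φ a w ∈ comp V K := by
  rw [mem_comp] at hw ⊢
  refine ⟨h.invV a w hw.1, fun k hk => ?_⟩
  obtain ⟨k, rfl⟩ := (φ a).surjective k
  rw [← map_mul, ← map_mul, hw.2 k ((ha k).1 hk)]

/-- The orbit product of a component vector. -/
theorem Pair.orbit_product (h : Pair φ s r V P) {K : Subgroup G}
    (hK : K ≤ P ∧ K ≠ P ∧ Nat.card P ≤ r * Nat.card K) (L : Subgroup A) {w : G} (hw : w ∈ comp V K)
    (hfix : ∀ a ∈ L, a ∈ stab φ K → φ a w = w) :
    ∃ z ∈ V, z ∈ fixS φ L ∧ ∀ c ∈ P, (c * z = z * c → c * w = w * c) ∧ (z = 1 → w = 1) := by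
  classical
  letI : CommGroup V := { (inferInstance : Group V) with
    mul_comm := fun y z => Subtype.ext (h.modV.comm _ y.2 _ z.2) }
  set L₀ : Subgroup L := (stab φ K).subgroupOf L with hL₀
  letI := Fintype.ofFinite (L ⧸ L₀)
  have hout : ∀ a b : L, (QuotientGroup.mk a : L ⧸ L₀) = QuotientGroup.mk b → φ (b : A) w = φ (a : A) w := by
    intro a b hab
    have hmem : (((a⁻¹ * b : L)) : A) ∈ stab φ K :=
      mem_subgroupOf.1 (hL₀ ▸ (QuotientGroup.eq.1 hab : a⁻¹ * b ∈ L₀))
    have := hfix _ (a⁻¹ * b : L).2 hmem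
    rw [coe_mul, coe_inv, map_mul, MulAut.mul_apply] at this
    conv_rhs => rw [← this]
    rw [← MulAut.mul_apply, ← map_mul, mul_inv_cancel, map_one, MulAut.one_apply]
  let x : L ⧸ L₀ → V := fun q => ⟨φ (q.out : A) w, h.invV _ w (mem_comp.1 hw).1⟩
  let Kq : L ⧸ L₀ → Subgroup G := fun q => K.map (φ (q.out : A)).toMonoidHom
  have hKq : ∀ q, Kq q ≤ P ∧ Kq q ≠ P ∧ Nat.card P ≤ r * Nat.card (Kq q) := by
    intro q
    have hc : Nat.card (Kq q) = Nat.card K := card_map_of_injective (φ (q.out : A)).injective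
    refine ⟨?_, fun e => hK.2.1 (eq_of_le_of_card_ge hK.1 (by rw [← hc, e])), hc ▸ hK.2.2⟩
    rintro _ ⟨k, hk, rfl⟩
    exact h.invP _ k (hK.1 hk)
  have hinj : Function.Injective Kq := by
    intro q q' he
    rw [← QuotientGroup.out_eq' q, ← QuotientGroup.out_eq' q']
    refine QuotientGroup.eq.2 ?_
    show (((q.out⁻¹ * q'.out : L)) : A) ∈ stab φ K
    intro k
    rw [coe_mul, coe_inv, map_mul, MulAut.mul_apply]
    have e1 : φ ((q.out : L) : A)⁻¹ (φ (q'.out : A) k) ∈ K ↔ φ (q'.out : A) k ∈ Kq q := by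
      constructor
      · intro hk
        refine ⟨_, hk, ?_⟩
        show φ (q.out : A) (φ ((q.out : L) : A)⁻¹ _) = _
        rw [← MulAut.mul_apply, ← map_mul, mul_inv_cancel, map_one, MulAut.one_apply]
      · rintro ⟨y, hy, hye⟩
        rw [← hye]
        show φ ((q.out : L) : A)⁻¹ (φ (q.out : A) y) ∈ K
        rwa [← MulAut.mul_apply, ← map_mul, inv_mul_cancel, map_one, MulAut.one_apply]
    rw [e1, he]
    exact ⟨fun ⟨y, hy, hye⟩ => (φ (q'.out : A)).injective hye ▸ hy, fun hk => ⟨k, hk, rfl⟩⟩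
  have hxK : ∀ q, (x q : G) ∈ comp V (Kq q) := by
    intro q
    rw [mem_comp]
    refine ⟨(x q).2, ?_⟩
    rintro _ ⟨k, hk, rfl⟩
    show φ (q.out : A) k * φ (q.out : A) w = φ (q.out : A) w * φ (q.out : A) k
    rw [← map_mul, ← map_mul, (mem_comp.1 hw).2 k hk]
  refine ⟨((∏ q, x q : V) : G), SetLike.coe_mem _, (mem_fixS φ).2 fun a ha => ?_, fun c hc => ?_⟩
  · let e : V →* V := MonoidHom.mk' (fun y => ⟨φ a y, h.invV a y y.2⟩)
      fun y z => Subtype.ext (map_mul (φ a) (y : G) z)
    show ((e (∏ q, x q) : V) : G) = _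
    rw [map_prod]
    refine congrArg Subtype.val (Fintype.prod_equiv (MulAction.toPerm (⟨a, ha⟩ : L)) _ _ fun q => ?_)
    refine Subtype.ext ?_
    show φ a (φ (q.out : A) w) = φ ((((⟨a, ha⟩ : L) • q).out : L) : A) w
    rw [← MulAut.mul_apply, ← map_mul]
    refine (hout ((⟨a, ha⟩ : L) * q.out) _ ?_).symm
    rw [QuotientGroup.out_eq']
    conv_rhs => rw [← QuotientGroup.out_eq' q]
    rfl
  · set q₀ : L ⧸ L₀ := QuotientGroup.mk (1 : L) with hq₀
    have hx₀ : (x q₀ : G) = w := by
      show φ (q₀.out : A) w = w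
      rw [hout (1 : L) q₀.out (QuotientGroup.out_eq' q₀).symm, coe_one, map_one, MulAut.one_apply]
    refine ⟨fun hcz => ?_, fun hz => ?_⟩
    · let d : V →* V := MonoidHom.mk' (fun y => ⟨c * y * c⁻¹, h.norm c hc y y.2⟩)
        fun y z => Subtype.ext (by simp [mul_assoc])
      have hd : d (∏ q, x q) = ∏ q, x q := Subtype.ext (by
        show c * _ * c⁻¹ = _
        rw [hcz, mul_inv_cancel_right])
      have hp : ∏ q, d (x q) * (x q)⁻¹ = 1 := by
        rw [Finset.prod_mul_distrib, Finset.prod_inv_distrib, ← map_prod, hd, mul_inv_cancel]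
      have h1 := h.separate Kq hKq hinj (fun q => d (x q) * (x q)⁻¹) (fun q => by
        refine (comp V (Kq q)).mul_mem ?_ ((comp V (Kq q)).inv_mem (hxK q))
        rw [mem_comp]
        refine ⟨(d (x q)).2, fun k hk => ?_⟩
        show k * (c * (x q : G) * c⁻¹) = c * (x q : G) * c⁻¹ * k
        have e2 : k * c = c * k := h.modP.comm k ((hKq q).1 hk) c hc
        have e3 := (mem_comp.1 (hxK q)).2 k hk
        calc k * (c * (x q : G) * c⁻¹) = (k * c) * (x q : G) * c⁻¹ := by group
          _ = c * (k * (x q : G)) * c⁻¹ := by rw [e2]; group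
          _ = c * (x q : G) * (k * c⁻¹) := by rw [e3]; group
          _ = c * (x q : G) * (c⁻¹ * k) := by
              rw [show k * c⁻¹ = c⁻¹ * k from (show Commute k c from e2).inv_right.eq]
          _ = _ := by group) hp q₀
      have h2 : c * (x q₀ : G) * c⁻¹ = x q₀ := congrArg Subtype.val (mul_inv_eq_one.1 h1)
      rw [hx₀] at h2
      exact mul_inv_eq_iff_eq_mul.1 h2
    · have h1 := h.separate Kq hKq hinj x hxK (Subtype.ext hz) q₀
      rw [← hx₀, h1, coe_one]

/-- The fixed points of the complement in `P` centralise `V`. -/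
theorem Pair.centralizes (hp : Pair φ s r V P) (h : Hyp φ F H)
    (hcomm : ∀ c ∈ P, c ∈ fixS φ H → ∀ z ∈ V, z ∈ fixS φ H → c * z = z * c)
    {c : G} (hc : c ∈ P) (hcH : c ∈ fixS φ H) : ∀ v ∈ V, c * v = v * c := by
  letI : CommGroup P := { (inferInstance : Group P) with
    mul_comm := fun y z => Subtype.ext (hp.modP.comm _ y.2 _ z.2) }
  let ψ : P →* MulAut V :=
    { toFun := fun k =>
        { toFun := fun v => ⟨(k : G) * v * (k : G)⁻¹, hp.norm k k.2 v v.2⟩
          invFun := fun v => ⟨((k⁻¹ : P) : G) * v * ((k⁻¹ : P) : G)⁻¹, hp.norm _ (k⁻¹ : P).2 v v.2⟩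
          left_inv := fun v => Subtype.ext (by simp [mul_assoc])
          right_inv := fun v => Subtype.ext (by simp [mul_assoc])
          map_mul' := fun x y => Subtype.ext (by simp [mul_assoc]) }
      map_one' := MulEquiv.ext fun v => Subtype.ext (by simp)
      map_mul' := fun k l => MulEquiv.ext fun v => Subtype.ext (by simp [mul_assoc]) }
  have hhyp : CentClass.Hyp (G := V) (A := P) r :=
    ⟨hp.modP.prime, fun k => Subtype.ext (by simpa using hp.modP.exp k k.2), hp.coprime⟩
  have hgen := hhyp.eq_closure_hyper (φ := ψ) (U := (⊤ : Subgroup V)) (CentClass.inv_top ψ)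
  intro v hv
  have key : (⊤ : Subgroup V) ≤ (centralizer {c}).comap V.subtype := hgen.trans ((closure_le _).2 (by
    rintro u ⟨-, L, hL, hu⟩
    show (u : G) ∈ centralizer {c}
    rw [mem_centralizer_singleton_iff]
    set K : Subgroup G := L.map P.subtype with hK
    have huK : (u : G) ∈ comp V K := by
      rw [mem_comp]
      refine ⟨u.2, ?_⟩
      rintro _ ⟨k, hk, rfl⟩
      have := congrArg Subtype.val ((CentClass.mem_fxAll ψ).1 hu k hk)
      exact mul_inv_eq_iff_eq_mul.1 this
    by_cases hKP : K = P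
    · rw [hp.fpfP u u.2 fun k hk => (mem_comp.1 huK).2 k (hKP ▸ hk)]
      simp
    by_cases hcK : c ∈ K
    · exact ((mem_comp.1 huK).2 c hcK).symm
    suffices hu1 : (u : G) = 1 by rw [hu1]; simp
    have hKprop : K ≤ P ∧ K ≠ P ∧ Nat.card P ≤ r * Nat.card K :=
      ⟨map_subtype_le L, hKP, by rw [hK, card_map_of_injective P.subtype_injective]; exact hL⟩
    by_contra hu1
    -- the stabilisers
    have hFn : ∀ a ∈ stab φ K ⊓ H, a ∈ normalizer ((stab φ K ⊓ F : Subgroup A) : Set A) := by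
      intro a ha
      have hN := h.mem_normalizer a
      rw [mem_normalizer_iff] at hN ⊢
      intro x
      exact and_congr
        ⟨fun hx => (stab φ K).mul_mem ((stab φ K).mul_mem (mem_inf.1 ha).1 hx)
            ((stab φ K).inv_mem (mem_inf.1 ha).1),
          fun hx => by
            have := (stab φ K).mul_mem ((stab φ K).mul_mem ((stab φ K).inv_mem (mem_inf.1 ha).1) hx)
              (mem_inf.1 ha).1
            simpa [mul_assoc] using this⟩
        (hN x)
    haveI := h.nil
    have hnil : Group.IsNilpotent (stab φ K ⊓ F : Subgroup A) :=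
      Subgroup.isNilpotent_of_ker_le_center (inclusion (inf_le_right : stab φ K ⊓ F ≤ F))
        fun x hx => by
          rw [show x = 1 from inclusion_injective _ ((MonoidHom.mem_ker.1 hx).trans (map_one _).symm)]
          exact one_mem _
    have hmod : Mod s (comp V K) := ⟨hp.modV.prime, fun x hx y hy => hp.modV.comm x hx.1 y hy.1,
      fun x hx => hp.modV.exp x hx.1⟩
    have hfix : ∀ w ∈ comp V K, (∀ f ∈ stab φ K ⊓ F, φ f w = w) → w = 1 := by
      intro w hw hwf
      obtain ⟨z, -, hz, hz'⟩ := hp.orbit_product hKprop F hw fun a ha ha' => hwf a ⟨ha', ha⟩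
      exact (hz' 1 (one_mem _)).2 (h.fpf z ((mem_fixS φ).1 hz))
    obtain ⟨w, hw, hwH, hw1⟩ := hmod.fixed_ne_bot φ (F := stab φ K ⊓ F) (H := stab φ K ⊓ H) hnil
      (fun f hf w hw => hp.stab_comp hf.1 hw)
      (fun a ha w hw => hp.stab_comp ha.1 hw) hFn
      (fun a ha h1 f hf => h.semi a ha.2 h1 f hf.2) hfix
      (fun hb => hu1 (mem_bot.1 (hb ▸ huK)))
    obtain ⟨z, hzV, hz, hz'⟩ := hp.orbit_product hKprop H hw fun a ha ha' =>
      (mem_fixS φ).1 hwH a ⟨ha', ha⟩
    have hcw := (hz' c hc).1 (hcomm c hc hcH z hzV hz)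
    have hsup := hp.sup_eq hKprop.1 (zpowers_le.2 hc) hKprop.2.2 (fun hle => hcK (hle (mem_zpowers c)))
    have hle : P ≤ centralizer {w} := hsup ▸ sup_le
      (fun b hb => mem_centralizer_singleton_iff.2 ((mem_comp.1 hw).2 b hb))
      (zpowers_le.2 (mem_centralizer_singleton_iff.2 hcw))
    exact hw1 (hp.fpfP w (mem_comp.1 hw).1 fun k hk => mem_centralizer_singleton_iff.1 (hle hk))))
  exact (mem_centralizer_singleton_iff.1 (key (mem_top (⟨v, hv⟩ : V)))).symm

end CfsgLib.FrobFix
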