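import Cfsg.Agent.FrobFix.Module

/-!
# The inductive hypothesis
-/

set_option autoImplicit false
set_option linter.style.haveILetI false
set_option linter.unusedSectionVars false

namespace CfsgLib.FrobFix

open Subgroup

universe u v

variable {A : Type v} [Group A]

/-- Invariance. -/
def Inv {G : Type u} [Group G] (φ : A →* MulAut G) (U : Subgroup G) : Prop :=
  ∀ a : A, ∀ u ∈ U, φ a u ∈ U

/-- A Frobenius-like group acting without fixed points of the kernel, the complement having
nilpotent fixed subgroup. -/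
structure Hyp {G : Type u} [Group G] (φ : A →* MulAut G) (F H : Subgroup A) : Prop where
  norm : F.Normal
  nil : Group.IsNilpotent F
  semi : Semi F H
  fpf : ∀ g : G, (∀ f ∈ F, φ f g = g) → g = 1
  cnil : Group.IsNilpotent (fixS φ H)

variable {G : Type u} [Group G] {φ : A →* MulAut G} {F H : Subgroup A}

theorem Hyp.mem_normalizer (h : Hyp φ F H) (a : A) : a ∈ normalizer (F : Set A) := by
  haveI := h.norm
  rw [normalizer_eq_top]
  exact mem_top a

theorem inv_apply_mem (U : Subgroup G) (hU : Inv φ U) {a : A} {u : G} (hu : φ a u ∈ U) : u ∈ U := by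
  have := hU a⁻¹ _ hu
  rwa [← MulAut.mul_apply, ← map_mul, inv_mul_cancel, map_one, MulAut.one_apply] at this

theorem inv_of_char (U : Subgroup G) [U.Characteristic] : Inv φ U := fun a u hu =>
  characteristic_iff_map_le.1 (inferInstance : U.Characteristic) (φ a) ⟨u, hu, rfl⟩

theorem Inv.inf {U W : Subgroup G} (hU : Inv φ U) (hW : Inv φ W) : Inv φ (U ⊓ W) :=
  fun a u hu => ⟨hU a u hu.1, hW a u hu.2⟩

theorem Inv.map_subtype {U : Subgroup G} (hU : Inv φ U) (W : Subgroup U) [hW : W.Characteristic] :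
    Inv φ (W.map U.subtype) := by
  rintro a _ ⟨w, hw, rfl⟩
  let e : U ≃* U :=
    { toFun := fun x => ⟨φ a x, hU a x x.2⟩
      invFun := fun x => ⟨φ a⁻¹ x, hU a⁻¹ x x.2⟩
      left_inv := fun x => Subtype.ext (by
        show φ a⁻¹ (φ a (x : G)) = x
        rw [← MulAut.mul_apply, ← map_mul, inv_mul_cancel, map_one, MulAut.one_apply])
      right_inv := fun x => Subtype.ext (by
        show φ a (φ a⁻¹ (x : G)) = x
        rw [← MulAut.mul_apply, ← map_mul, mul_inv_cancel, map_one, MulAut.one_apply])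
      map_mul' := fun x y => Subtype.ext (map_mul (φ a) (x : G) y) }
  exact ⟨e w, characteristic_iff_map_le.1 hW e ⟨w, hw, rfl⟩, rfl⟩

theorem Inv.normalizer' {U : Subgroup G} (hU : Inv φ U) : Inv φ (normalizer (U : Set G)) := by
  intro a g hg
  rw [mem_normalizer_iff] at hg ⊢
  intro x
  have hx : ∀ y : G, φ a y ∈ U ↔ y ∈ U := fun y => ⟨inv_apply_mem U hU, hU a y⟩
  obtain ⟨y, rfl⟩ := (φ a).surjective x
  rw [hx, ← map_inv, ← map_mul, ← map_mul, hx]
  exact hg y

theorem inv_fixS {R : Subgroup A} (hR : ∀ a : A, ∀ r ∈ R, a⁻¹ * r * a ∈ R) :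
    Inv φ (fixS φ R) := by
  intro a u hu
  rw [mem_fixS] at hu ⊢
  intro r hr
  calc φ r (φ a u) = φ (a * (a⁻¹ * r * a)) u := by
        rw [← MulAut.mul_apply, ← map_mul]; congr 2; group
    _ = φ a u := by rw [map_mul, MulAut.mul_apply, hu _ (hR a r hr)]

/-- The action on an invariant subgroup. -/
def restrictInv (φ : A →* MulAut G) {U : Subgroup G} (hU : Inv φ U) : A →* MulAut U where
  toFun a :=
    { toFun := fun u => ⟨φ a u, hU a u u.2⟩
      invFun := fun u => ⟨φ a⁻¹ u, hU a⁻¹ u u.2⟩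
      left_inv := fun u => Subtype.ext (by
        show φ a⁻¹ (φ a (u : G)) = u
        rw [← MulAut.mul_apply, ← map_mul, inv_mul_cancel, map_one, MulAut.one_apply])
      right_inv := fun u => Subtype.ext (by
        show φ a (φ a⁻¹ (u : G)) = u
        rw [← MulAut.mul_apply, ← map_mul, mul_inv_cancel, map_one, MulAut.one_apply])
      map_mul' := fun u v => Subtype.ext (map_mul (φ a) (u : G) v) }
  map_one' := MulEquiv.ext fun u => Subtype.ext (by
    show φ 1 (u : G) = u
    rw [map_one, MulAut.one_apply])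
  map_mul' a b := MulEquiv.ext fun u => Subtype.ext (by
    show φ (a * b) (u : G) = φ a (φ b (u : G))
    rw [map_mul, MulAut.mul_apply])

theorem Hyp.restrict (h : Hyp φ F H) {U : Subgroup G} (hU : Inv φ U) :
    Hyp (restrictInv φ hU) F H := by
  refine ⟨h.norm, h.nil, h.semi, fun g hg => Subtype.ext (h.fpf g fun f hf =>
    congrArg Subtype.val (hg f hf)), ?_⟩
  haveI := h.cnil
  have hle : ∀ g : fixS (restrictInv φ hU) H, ((g : U) : G) ∈ fixS φ H := fun g =>
    (mem_fixS φ).2 fun a ha => congrArg Subtype.val ((mem_fixS _).1 g.2 a ha)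
  refine Subgroup.isNilpotent_of_ker_le_center
    (MonoidHom.mk' (fun g => (⟨_, hle g⟩ : fixS φ H)) fun _ _ => rfl) ?_
  intro x hx
  have h1 : ((x : U) : G) = 1 := congrArg Subtype.val (MonoidHom.mem_ker.1 hx)
  rw [show x = 1 from Subtype.ext (Subtype.ext h1)]
  exact one_mem _

variable [Finite A] [Finite G]

/-- The action on the quotient by an invariant elementary abelian normal subgroup. -/
theorem Hyp.quotient (h : Hyp φ F H) {s : ℕ} {V : Subgroup G} [V.Normal] (hV : Mod s V)
    (hVi : Inv φ V) : ∃ ψ : A →* MulAut (G ⧸ V), Hyp ψ F H := by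
  let ψ : A →* MulAut (G ⧸ V) :=
    { toFun := fun a => QuotientGroup.congr V V (φ a) (by
        refine le_antisymm (map_le_iff_le_comap.2 fun x hx => hVi a x hx) fun x hx => ?_
        refine ⟨φ a⁻¹ x, hVi a⁻¹ x hx, ?_⟩
        show φ a (φ a⁻¹ x) = x
        rw [← MulAut.mul_apply, ← map_mul, mul_inv_cancel, map_one, MulAut.one_apply])
      map_one' := MulEquiv.ext fun x => by
        obtain ⟨g, rfl⟩ := QuotientGroup.mk_surjective x
        show ((φ 1 g : G) : G ⧸ V) = (g : G ⧸ V)
        rw [map_one, MulAut.one_apply]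
      map_mul' := fun a b => MulEquiv.ext fun x => by
        obtain ⟨g, rfl⟩ := QuotientGroup.mk_surjective x
        show ((φ (a * b) g : G) : G ⧸ V) = ((φ a (φ b g) : G) : G ⧸ V)
        rw [map_mul, MulAut.mul_apply] }
  refine ⟨ψ, h.norm, h.nil, h.semi, fun x hx => ?_, ?_⟩
  · obtain ⟨g, rfl⟩ := QuotientGroup.mk_surjective x
    rw [QuotientGroup.eq_one_iff]
    refine hV.fpf_quotient φ h.nil (fun f _ => hVi f) h.fpf g fun f hf => ?_
    exact QuotientGroup.eq.1 (hx f hf).symm
  · haveI := h.cnil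
    have hle : ∀ g : fixS φ H, (((g : G)) : G ⧸ V) ∈ fixS ψ H := fun g => (mem_fixS ψ).2 fun a ha => by
      show ((φ a (g : G) : G) : G ⧸ V) = _
      rw [(mem_fixS φ).1 g.2 a ha]
    refine Group.nilpotent_of_surjective (MonoidHom.mk' (fun g => (⟨_, hle g⟩ : fixS ψ H))
      fun x y => Subtype.ext (by simp)) ?_
    rintro ⟨x, hx⟩
    obtain ⟨g, rfl⟩ := QuotientGroup.mk_surjective x
    obtain ⟨c, hc, hgc⟩ := hV.exists_lift φ h.nil (fun f _ => hVi f) (fun a _ => hVi a)
      (fun a _ => h.mem_normalizer a) h.semi (fun v _ hv => h.fpf v hv) g fun a ha =>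
        QuotientGroup.eq.1 ((mem_fixS ψ).1 hx a ha).symm
    exact ⟨⟨c, hc⟩, Subtype.ext (QuotientGroup.eq.2 hgc).symm⟩

end CfsgLib.FrobFix
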