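import Cfsg.Agent.FrobFix.Hyp
import Cfsg.Agent.Coprime.Sylow

/-!
# Invariant Sylow subgroups in a minimal counterexample
-/

set_option autoImplicit false
set_option linter.style.haveILetI false
set_option linter.unusedSectionVars false

namespace CfsgLib.FrobFix

open Subgroup
open scoped Pointwise

universe u v

variable {A : Type v} [Group A] [Finite A] {G : Type u} [Group G] [Finite G]
  {φ : A →* MulAut G} {F H : Subgroup A}

/-- In a nilpotent invariant subgroup the `p`-part is invariant. -/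
theorem exists_top_pSubgroup {M : Subgroup G} (hM : Inv φ M) [Group.IsNilpotent M] (p : ℕ)
    [Fact p.Prime] :
    ∃ T : Subgroup G, T ≤ M ∧ IsPGroup p T ∧ Inv φ T ∧
      (∀ U : Subgroup G, U ≤ M → IsPGroup p U → U ≤ T) ∧ (p ∣ Nat.card M → T ≠ ⊥) := by
  obtain ⟨P⟩ : Nonempty (Sylow p M) := inferInstance
  have hn : (P : Subgroup M).Normal :=
    Sylow.normal_of_normalizerCondition Group.normalizerCondition_of_isNilpotent P
  haveI : Subsingleton (Sylow p M) := by
    haveI := Sylow.unique_of_normal P hn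
    infer_instance
  have hmax : ∀ U : Subgroup G, U ≤ M → IsPGroup p U → U ≤ (P : Subgroup M).map M.subtype := by
    intro U hU hp x hx
    obtain ⟨Q, hQ⟩ := (hp.comap_subtype (K := M)).exists_le_sylow
    have : Q = P := Subsingleton.elim _ _
    exact ⟨⟨x, hU hx⟩, this ▸ hQ (show (⟨x, hU hx⟩ : M) ∈ U.comap M.subtype from hx), rfl⟩
  refine ⟨(P : Subgroup M).map M.subtype, map_subtype_le _, P.isPGroup'.map _, fun a u hu => ?_, hmax,
    fun hd h0 => ?_⟩
  · refine hmax (((P : Subgroup M).map M.subtype).map (φ a).toMonoidHom) ?_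
      ((P.isPGroup'.map _).map _) ⟨u, hu, rfl⟩
    rintro _ ⟨x, hx, rfl⟩
    exact hM a x (map_subtype_le _ hx)
  · exact P.ne_bot_of_dvd_card hd ((Subgroup.map_eq_bot_iff_of_injective _ M.subtype_injective).1 h0)

/-- An invariant maximal `p`-subgroup is a Sylow subgroup when its normalizer is nilpotent. -/
theorem exists_invariant_sylow_of_seed (p : ℕ) [Fact p.Prime]
    (hsub : ∀ M : Subgroup G, Inv φ M → M ≠ ⊤ → Group.IsNilpotent M)
    (hnn : ∀ U : Subgroup G, U.Normal → Inv φ U → IsPGroup p U → U = ⊥)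
    {W : Subgroup G} (hW : IsPGroup p W) (hWi : Inv φ W) (hW1 : W ≠ ⊥) :
    ∃ S : Sylow p G, Inv φ (S : Subgroup G) := by
  obtain ⟨S, hWS, ⟨hSp, hSi⟩, hmax⟩ := Finite.exists_le_maximal
    (p := fun U : Subgroup G => IsPGroup p U ∧ Inv φ U) ⟨hW, hWi⟩
  have hS1 : S ≠ ⊥ := fun h => hW1 (eq_bot_iff.2 (h ▸ hWS))
  obtain ⟨T, hT⟩ := hSp.exists_le_sylow
  suffices hTS : (T : Subgroup G) ≤ S by
    exact ⟨T, le_antisymm hTS hT ▸ hSi⟩
  set N := normalizer (S : Set G) with hN
  have hNtop : N ≠ ⊤ := fun h => hS1 (hnn S (normalizer_eq_top_iff.1 h) hSi hSp)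
  haveI := hsub N hSi.normalizer' hNtop
  obtain ⟨U, hUN, hUp, hUi, hUmax, -⟩ := exists_top_pSubgroup (hSi.normalizer') p
  have hSU : S ≤ U := hUmax S le_normalizer hSp
  have hUS : U ≤ S := hmax ⟨hUp, hUi⟩ hSU
  -- `S` is self-normalizing in `T`
  have hnc := Group.normalizerCondition_of_isNilpotent (h := T.isPGroup'.isNilpotent)
  by_contra hlt
  have hne : S.subgroupOf (T : Subgroup G) ≠ ⊤ := fun h => hlt (subgroupOf_eq_top.1 h)
  obtain ⟨x, hx, hxS⟩ := SetLike.exists_of_lt (hnc _ hne.lt_top)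
  have hxN : (x : G) ∈ N := by
    rw [hN, mem_normalizer_iff]
    intro y
    constructor
    · intro hy
      exact (mem_normalizer_iff.1 hx ⟨y, hT hy⟩).1 hy
    · intro hy
      have hyT : y ∈ (T : Subgroup G) := by
        have := (T : Subgroup G).mul_mem ((T : Subgroup G).mul_mem ((T : Subgroup G).inv_mem x.2) (hT hy)) x.2
        simpa [mul_assoc] using this
      exact (mem_normalizer_iff.1 hx ⟨y, hyT⟩).2 hy
  apply hxS
  refine hUS (hUmax (zpowers (x : G)) (zpowers_le.2 hxN) ?_ (mem_zpowers _))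
  exact T.isPGroup'.to_le (zpowers_le.2 x.2)

/-- An odd prime has an invariant Sylow subgroup. -/
theorem exists_invariant_sylow_odd (h : Hyp φ F H) (hsub : ∀ M : Subgroup G, Inv φ M → M ≠ ⊤ → Group.IsNilpotent M)
    (hnn : ∀ (q : ℕ), q.Prime → ∀ U : Subgroup G, U.Normal → Inv φ U → IsPGroup q U → U = ⊥)
    {p : ℕ} (hp : p.Prime) (hp2 : p ≠ 2) (hpd : p ∣ Nat.card G) :
    ∃ (q : ℕ) (_ : Fact q.Prime) (S : Sylow q G), q ≠ 2 ∧ q ∣ Nat.card G ∧ Inv φ (S : Subgroup G) := by
  classical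
  haveI := Fact.mk hp
  haveI := h.nil
  haveI : Fact (Nat.Prime 2) := ⟨Nat.prime_two⟩
  -- Sylow subgroups of the kernel
  have hQ : ∀ q : ℕ, q.Prime → ∃ Q : Subgroup A, Q ≤ F ∧ IsPGroup q Q ∧
      (∀ a : A, ∀ r ∈ Q, a⁻¹ * r * a ∈ Q) ∧ (∀ U : Subgroup A, U ≤ F → IsPGroup q U → U ≤ Q) := by
    intro q hq
    haveI := Fact.mk hq
    haveI := h.norm
    obtain ⟨P⟩ : Nonempty (Sylow q F) := inferInstance
    have hn : (P : Subgroup F).Normal :=
      Sylow.normal_of_normalizerCondition Group.normalizerCondition_of_isNilpotent P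
    haveI := P.characteristic_of_normal hn
    haveI : Subsingleton (Sylow q F) := by
      haveI := Sylow.unique_of_normal P hn
      infer_instance
    refine ⟨(P : Subgroup F).map F.subtype, map_subtype_le _, P.isPGroup'.map _, fun a r hr => ?_, ?_⟩
    · haveI : ((P : Subgroup F).map F.subtype).Normal := ConjAct.normal_of_characteristic_of_normal
      simpa using Normal.conj_mem inferInstance r hr a⁻¹
    · intro U hU hp x hx
      obtain ⟨Q, hQ⟩ := (hp.comap_subtype (K := F)).exists_le_sylow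
      have : Q = P := Subsingleton.elim _ _
      exact ⟨⟨x, hU hx⟩, this ▸ hQ (show (⟨x, hU hx⟩ : F) ∈ U.comap F.subtype from hx), rfl⟩
  by_cases hA : ∃ q : ℕ, q.Prime ∧ q ≠ 2 ∧ q ∣ Nat.card G ∧
      ∃ Q : Subgroup A, Q ≤ F ∧ IsPGroup q Q ∧ (∀ a : A, ∀ r ∈ Q, a⁻¹ * r * a ∈ Q) ∧ fixS φ Q ≠ ⊤
  · obtain ⟨q, hq, hq2, hqd, Q, -, hQp, hQn, hC⟩ := hA
    haveI := Fact.mk hq
    set C := fixS φ Q with hCdef
    have hCi : Inv φ C := inv_fixS hQn
    haveI := hsub C hCi hC
    -- `q` divides `|C|`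
    letI : MulDistribMulAction Q G := MulDistribMulAction.compHom G (φ.comp Q.subtype)
    obtain ⟨R, hR⟩ := hQp.nonempty_fixed_point_of_prime_not_dvd_card (Sylow q G)
      (not_dvd_card_sylow q G)
    have hRi : ∀ a ∈ Q, ∀ x ∈ (R : Subgroup G), φ a x ∈ (R : Subgroup G) := fun a ha x hx => by
      have h1 := hR ⟨a, ha⟩
      have h2 : (⟨a, ha⟩ : Q) • (R : Subgroup G) = (R : Subgroup G) := congrArg Sylow.toSubgroup h1
      exact h2.le ⟨x, hx, rfl⟩
    letI : MulDistribMulAction Q (R : Subgroup G) :=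
      { smul := fun a x => ⟨φ (a : A) x, hRi a a.2 x x.2⟩
        one_smul := fun x => Subtype.ext (by
          show φ ((1 : Q) : A) (x : G) = x
          rw [coe_one, map_one, MulAut.one_apply])
        mul_smul := fun a b x => Subtype.ext (by
          show φ ((a * b : Q) : A) (x : G) = φ (a : A) (φ (b : A) (x : G))
          rw [coe_mul, map_mul, MulAut.mul_apply])
        smul_one := fun a => Subtype.ext (map_one _)
        smul_mul := fun a x y => Subtype.ext (map_mul _ _ _) }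
    haveI : Nontrivial (R : Subgroup G) := (nontrivial_iff_ne_bot _).2 (R.ne_bot_of_dvd_card hqd)
    obtain ⟨k, hk0, hk⟩ := R.isPGroup'.nontrivial_iff_card.1 inferInstance
    obtain ⟨z, hz, hz1⟩ := hQp.exists_fixed_point_of_prime_dvd_card_of_fixed_point (R : Subgroup G)
      (hk ▸ dvd_pow_self q (by omega)) (a := (1 : (R : Subgroup G))) (fun γ => smul_one γ)
    have hzC : (z : G) ∈ C := (mem_fixS φ).2 fun a ha => congrArg Subtype.val (hz ⟨a, ha⟩)
    have hqC : q ∣ Nat.card C := by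
      obtain ⟨k, hk⟩ := R.isPGroup' z
      obtain ⟨j, hjk, hj⟩ := (Nat.dvd_prime_pow hq).1 (orderOf_dvd_of_pow_eq_one hk)
      rw [← Subgroup.orderOf_coe z] at hj
      have hj0 : j ≠ 0 := fun h0 => by
        rw [h0, pow_zero, orderOf_eq_one_iff] at hj
        exact hz1 (Subtype.ext hj.symm)
      exact ((hj ▸ dvd_pow_self q hj0 : q ∣ orderOf (z : G))).trans (C.orderOf_dvd_natCard hzC)
    obtain ⟨T, -, hTp, hTi, -, hT1⟩ := exists_top_pSubgroup hCi q
    obtain ⟨S, hS⟩ := exists_invariant_sylow_of_seed q hsub (hnn q hq) hTp hTi (hT1 hqC)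
    exact ⟨q, inferInstance, S, hq2, hqd, hS⟩
  push Not at hA
  -- the odd part of the kernel acts coprimely
  obtain ⟨E, hEF, hEc, hEn, hEpow⟩ := exists_part h.nil 2
  have hEn' : ∀ a : A, a ∈ normalizer (E : Set A) := fun a => hEn a (h.mem_normalizer a)
  set Ebar : Subgroup (MulAut G) := E.map φ with hEbar
  have hEcop : (Nat.card Ebar).Coprime (Nat.card G) := by
    refine Nat.coprime_of_dvd fun q hq hqE hqG => ?_
    haveI := Fact.mk hq
    have hq2 : q ≠ 2 := by
      rintro rfl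
      exact Nat.not_coprime_of_dvd_of_dvd (by norm_num) (hqE.trans (card_map_dvd E φ)) dvd_rfl hEc
    obtain ⟨Q, hQF, hQp, hQn, hQmax⟩ := hQ q hq
    have htriv := hA q hq hq2 hqG Q hQF hQp hQn
    obtain ⟨⟨y, hy⟩, hyo⟩ := exists_prime_orderOf_dvd_card' q hqE
    obtain ⟨e, he, rfl⟩ := hy
    rw [← Subgroup.orderOf_coe] at hyo
    -- the `q`-part of `e` acts trivially
    obtain ⟨n, hn⟩ : ∃ n, orderOf e = q ^ n * (orderOf e / q ^ n) ∧ ¬ q ∣ orderOf e / q ^ n :=
      ⟨(orderOf e).factorization q, (Nat.ordProj_mul_ordCompl_eq_self _ q).symm,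
        Nat.not_dvd_ordCompl hq (orderOf_pos e).ne'⟩
    set m := orderOf e / q ^ n
    have hzp : IsPGroup q (zpowers (e ^ m)) := by
      intro z
      refine ⟨n, Subtype.ext ?_⟩
      obtain ⟨i, hi⟩ := mem_zpowers_iff.1 z.2
      rw [coe_pow, ← hi, ← zpow_natCast, ← zpow_mul, mul_comm, zpow_mul, zpow_natCast, ← pow_mul,
        mul_comm, ← hn.1, pow_orderOf_eq_one, one_zpow]
      rfl
    have hmem : e ^ m ∈ Q :=
      hQmax _ (zpowers_le.2 (pow_mem (hEF he) m)) hzp (mem_zpowers _)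
    have hone : φ e ^ m = 1 := by
      rw [← map_pow]
      exact MulEquiv.ext fun g => (mem_fixS φ).1 (htriv ▸ mem_top g : g ∈ fixS φ Q) _ hmem
    have := orderOf_dvd_of_pow_eq_one hone
    rw [hyo] at this
    exact hn.2 this
  haveI : Group.IsSolvable Ebar := by
    haveI : Group.IsNilpotent F := h.nil
    haveI : Group.IsSolvable E := Group.isSolvable_of_isSolvable_injective (inclusion_injective hEF)
    exact Group.isSolvable_of_surjective (f := φ.subgroupMap E) (φ.subgroupMap_surjective E)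
  letI : MulDistribMulAction Ebar G := MulDistribMulAction.compHom G Ebar.subtype
  set C := fixS φ E with hC
  have hCi : Inv φ C := inv_fixS fun a r hr => by
    have := (mem_normalizer_iff.1 (inv_mem (hEn' a)) r).1 hr
    simpa using this
  obtain ⟨D, hDF, hDp, hDn, hDmax⟩ := hQ 2 Nat.prime_two
  have hED : ∀ f ∈ F, f ∈ E ⊔ D := by
    intro f hf
    obtain ⟨k, hk⟩ := hEpow f hf
    obtain ⟨n, hn⟩ : ∃ n, orderOf f = 2 ^ n * (orderOf f / 2 ^ n) ∧ ¬ 2 ∣ orderOf f / 2 ^ n :=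
      ⟨(orderOf f).factorization 2, (Nat.ordProj_mul_ordCompl_eq_self _ 2).symm,
        Nat.not_dvd_ordCompl Nat.prime_two (orderOf_pos f).ne'⟩
    set m := orderOf f / 2 ^ n
    have hzp : IsPGroup 2 (zpowers (f ^ m)) := by
      intro z
      refine ⟨n, Subtype.ext ?_⟩
      obtain ⟨i, hi⟩ := mem_zpowers_iff.1 z.2
      rw [coe_pow, ← hi, ← zpow_natCast, ← zpow_mul, mul_comm, zpow_mul, zpow_natCast, ← pow_mul,
        mul_comm, ← hn.1, pow_orderOf_eq_one, one_zpow]
      rfl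
    have hm : f ^ m ∈ E ⊔ D :=
      mem_sup_right (hDmax _ (zpowers_le.2 (pow_mem hf m)) hzp (mem_zpowers _))
    have hcop : Nat.Coprime (2 ^ k) m :=
      (Nat.prime_two.coprime_iff_not_dvd.2 hn.2).pow_left k
    obtain ⟨i, j, hij⟩ : ∃ i j : ℤ, ((2 ^ k : ℕ) : ℤ) * i + (m : ℤ) * j = 1 := by
      refine ⟨Nat.gcdA (2 ^ k) m, Nat.gcdB (2 ^ k) m, ?_⟩
      rw [← Nat.gcd_eq_gcd_ab, hcop.gcd_eq_one]
      rfl
    have e1 : f = (f ^ (2 ^ k)) ^ i * (f ^ m) ^ j := by
      rw [← zpow_natCast f, ← zpow_natCast f, ← zpow_mul, ← zpow_mul, ← zpow_add, hij, zpow_one]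
    rw [e1]
    exact mul_mem (zpow_mem (mem_sup_left hk) i) (zpow_mem hm j)
  have hfpfC : ∀ c ∈ C, (∀ d ∈ D, φ d c = c) → c = 1 := fun c hc hd => h.fpf c fun f hf => by
    have hle : E ⊔ D ≤
        ({ carrier := {a | φ a c = c}
           one_mem' := by simp
           mul_mem' := fun {a b} ha hb => by
             show φ (a * b) c = c
             rw [map_mul, MulAut.mul_apply, hb, ha]
           inv_mem' := fun {a} ha => by
             show φ a⁻¹ c = c
             conv_lhs => rw [← ha]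
             rw [← MulAut.mul_apply, ← map_mul, inv_mul_cancel, map_one, MulAut.one_apply] } : Subgroup A) :=
      sup_le (fun e he => (mem_fixS φ).1 hc e he) hd
    exact hle (hED f hf)
  -- the action of `D` on the `E`-invariant Sylow subgroups
  letI : MulAction A (Sylow p G) := MulAction.compHom _ φ
  letI : MulAction D C :=
    { smul := fun d c => ⟨φ (d : A) c, hCi d c c.2⟩
      one_smul := fun c => Subtype.ext (by
        show φ ((1 : D) : A) (c : G) = c
        rw [coe_one, map_one, MulAut.one_apply])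
      mul_smul := fun a b c => Subtype.ext (by
        show φ ((a * b : D) : A) (c : G) = φ (a : A) (φ (b : A) (c : G))
        rw [coe_mul, map_mul, MulAut.mul_apply]) }
  have hCodd : ¬ 2 ∣ Nat.card C := fun hd => by
    obtain ⟨z, hz, hz1⟩ := hDp.exists_fixed_point_of_prime_dvd_card_of_fixed_point C hd
      (a := (1 : C)) (fun d => Subtype.ext (map_one _))
    exact hz1 (Subtype.ext (hfpfC z z.2 fun d hd => congrArg Subtype.val (hz ⟨d, hd⟩)).symm)
  have hact : ∀ (a : A) (g : G) (P : Sylow p G), a • (g • P) = (φ a g) • (a • P) := fun a g P =>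
    Coprime.smul_sylow_smul (A := MulAut G) (φ a) g P
  let Ω : Set (Sylow p G) := {P | ∀ e ∈ E, e • P = P}
  obtain ⟨P₀, hP₀⟩ : ∃ P, P ∈ Ω := by
    obtain ⟨P, hP⟩ := Coprime.exists_invariant_sylow (A := Ebar) hEcop p
    exact ⟨P, fun e he => Sylow.ext (hP.smul_eq ⟨φ e, e, he, rfl⟩)⟩
  have hΩC : ∀ {c : G}, c ∈ C → ∀ {P}, P ∈ Ω → c • P ∈ Ω := fun {c} hc {P} hP e he => by
    rw [hact, (mem_fixS φ).1 hc e he, hP e he]
  letI : MulAction C Ω :=
    { smul := fun c P => ⟨(c : G) • P.1, hΩC c.2 P.2⟩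
      one_smul := fun P => Subtype.ext (one_smul G P.1)
      mul_smul := fun c d P => Subtype.ext (mul_smul (c : G) (d : G) P.1) }
  have htrans : ∀ P : Ω, ∃ c : C, c • (⟨P₀, hP₀⟩ : Ω) = P := by
    intro P
    have hi : ∀ Q, Q ∈ Ω → Coprime.IsInvariant Ebar (Q : Subgroup G) := by
      intro Q hQ
      refine Coprime.isInvariant_of_smul_eq ?_
      rintro ⟨_, e, he, rfl⟩
      exact congrArg Sylow.toSubgroup (hQ e he)
    obtain ⟨c, hc, hcP⟩ := Coprime.exists_fixed_conj_sylow (A := Ebar) hEcop P₀ P.1 (hi _ hP₀) (hi _ P.2)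
    exact ⟨⟨c, (mem_fixS φ).2 fun e he => hc ⟨φ e, e, he, rfl⟩⟩, Subtype.ext hcP⟩
  have hodd : ¬ 2 ∣ Nat.card Ω := by
    intro hd
    refine hCodd (hd.trans ?_)
    have horb : MulAction.orbit C (⟨P₀, hP₀⟩ : Ω) = Set.univ :=
      Set.eq_univ_of_forall fun P => htrans P
    have := MulAction.index_stabilizer C (⟨P₀, hP₀⟩ : Ω)
    rw [horb, Set.ncard_univ] at this
    exact this ▸ index_dvd_card _
  have hΩD : ∀ {d : A}, d ∈ D → ∀ {P}, P ∈ Ω → d • P ∈ Ω := fun {d} _ {P} hP e he => by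
    have he' : d⁻¹ * e * d ∈ E := by
      have := (mem_normalizer_iff.1 (inv_mem (hEn' d)) e).1 he
      simpa using this
    calc e • d • P = d • (d⁻¹ * e * d) • P := by rw [← mul_smul, ← mul_smul]; congr 1; group
      _ = d • P := by rw [hP _ he']
  letI : MulAction D Ω :=
    { smul := fun d P => ⟨(d : A) • P.1, hΩD d.2 P.2⟩
      one_smul := fun P => Subtype.ext (one_smul A P.1)
      mul_smul := fun c d P => Subtype.ext (mul_smul (c : A) (d : A) P.1) }
  obtain ⟨P₁, hP₁⟩ := hDp.nonempty_fixed_point_of_prime_not_dvd_card Ω hodd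
  have hfixF : ∀ P : Sylow p G, P ∈ Ω → (∀ d ∈ D, d • P = P) → ∀ f ∈ F, f • P = P := by
    intro P hPE hPD f hf
    exact (sup_le (fun e he => hPE e he) hPD : E ⊔ D ≤ MulAction.stabilizer A P) (hED f hf)
  have huniq : ∀ P : Sylow p G, (∀ f ∈ F, f • P = P) → P = P₁.1 := by
    intro P hP
    obtain ⟨c₁, hc₁⟩ := htrans P₁
    obtain ⟨c₂, hc₂⟩ := htrans ⟨P, fun e he => hP e (hEF he)⟩
    have hcPP : ((c₂ * c₁⁻¹ : C) : G) • P₁.1 = P := by
      have h' : (c₂ * c₁⁻¹) • P₁ = (⟨P, fun e he => hP e (hEF he)⟩ : Ω) := by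
        rw [mul_smul, ← hc₂]
        congr 1
        rw [inv_smul_eq_iff, hc₁]
      exact congrArg Subtype.val h'
    let X : Set C := {c | (c : G) • P₁.1 = P}
    have hXD : ∀ (d : D) (c : C), c ∈ X → d • c ∈ X := by
      intro d c hc
      show (φ (d : A) (c : G)) • P₁.1 = P
      have h1 : ((d : A)) • P₁.1 = P₁.1 := congrArg Subtype.val (hP₁ d)
      rw [← h1, ← hact, show (c : G) • P₁.1 = P from hc, hP _ (hDF d.2)]
    letI : MulAction D X :=
      { smul := fun d c => ⟨d • c.1, hXD d c.1 c.2⟩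
        one_smul := fun c => Subtype.ext (one_smul D c.1)
        mul_smul := fun a b c => Subtype.ext (mul_smul a b c.1) }
    have hX : ¬ 2 ∣ Nat.card X := by
      intro hd
      refine hCodd (hd.trans ?_)
      have e : X ≃ MulAction.stabilizer C P₁ :=
        { toFun := fun c => ⟨(c₂ * c₁⁻¹)⁻¹ * c.1, Subtype.ext (by
            show (((c₂ * c₁⁻¹)⁻¹ * c.1 : C) : G) • P₁.1 = P₁.1
            rw [coe_mul, mul_smul, show (c.1 : G) • P₁.1 = P from c.2, coe_inv, inv_smul_eq_iff, hcPP])⟩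
          invFun := fun c => ⟨(c₂ * c₁⁻¹) * c.1, by
            show (((c₂ * c₁⁻¹) * c.1 : C) : G) • P₁.1 = P
            rw [coe_mul, mul_smul, show (c.1 : G) • P₁.1 = P₁.1 from congrArg Subtype.val c.2, hcPP]⟩
          left_inv := fun c => Subtype.ext (mul_inv_cancel_left _ _)
          right_inv := fun c => Subtype.ext (inv_mul_cancel_left _ _) }
      rw [Nat.card_congr e]
      exact card_subgroup_dvd_card _
    obtain ⟨⟨c, hcX⟩, hcfix⟩ := hDp.nonempty_fixed_point_of_prime_not_dvd_card X hX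
    have hc1 : (c : G) = 1 := hfpfC c c.2 fun d hd =>
      congrArg Subtype.val (congrArg Subtype.val (hcfix ⟨d, hd⟩))
    rw [← (show (c : G) • P₁.1 = P from hcX), hc1, one_smul]
  refine ⟨p, inferInstance, P₁.1, hp2, hpd, fun a x hx => ?_⟩
  have hFP := hfixF P₁.1 P₁.2 fun d hd => congrArg Subtype.val (hP₁ ⟨d, hd⟩)
  have hafix : a • P₁.1 = P₁.1 := huniq _ fun f hf => by
    have hf' : a⁻¹ * f * a ∈ F := by
      simpa using h.norm.conj_mem f hf a⁻¹
    calc f • a • P₁.1 = a • (a⁻¹ * f * a) • P₁.1 := by rw [← mul_smul, ← mul_smul]; congr 1; group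
      _ = a • P₁.1 := by rw [hFP _ hf']
  have hsub' : (φ a) • ((P₁.1 : Sylow p G) : Subgroup G) = (P₁.1 : Sylow p G) :=
    congrArg Sylow.toSubgroup hafix
  exact hsub'.le (smul_mem_pointwise_smul x (φ a) _ hx)

end CfsgLib.FrobFix
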