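import Cfsg.Agent.FrobFix.InvSylow
import Cfsg.Agent.FrobFix.Component
import Cfsg.Agent.CentClass.Nilp

/-!
# A fixed-point-free Frobenius group with nilpotent fixed points of the complement
-/

set_option autoImplicit false
set_option linter.style.haveILetI false
set_option linter.unusedSectionVars false

namespace CfsgLib.FrobFix

open Subgroup
open scoped Pointwise

universe u v

variable {A : Type v} [Group A] [Finite A]

theorem exists_elementary {G : Type u} [Group G] [Finite G] {φ : A →* MulAut G} {U : Subgroup G}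
    [U.Normal] (hUi : Inv φ U) (hU1 : U ≠ ⊥) [Group.IsSolvable U] :
    ∃ (s : ℕ) (V : Subgroup G), V ≤ U ∧ V ≠ ⊥ ∧ V.Normal ∧ Inv φ V ∧ Mod s V := by
  haveI : Nontrivial U := (nontrivial_iff_ne_bot U).2 hU1
  obtain ⟨q, M, hq, hMc, hM1, hcomm, hexp⟩ := CentClass.exists_char_elementary (G := U)
  haveI := hMc
  refine ⟨q, M.map U.subtype, map_subtype_le M, ?_, ConjAct.normal_of_characteristic_of_normal,
    hUi.map_subtype M, hq, ?_, ?_⟩
  · exact fun h0 => hM1 ((Subgroup.map_eq_bot_iff_of_injective _ U.subtype_injective).1 h0)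
  · rintro _ ⟨x, hx, rfl⟩ _ ⟨y, hy, rfl⟩
    rw [← map_mul, hcomm x hx y hy, map_mul]
  · rintro _ ⟨x, hx, rfl⟩
    rw [← map_pow, hexp x hx, map_one]

/-- If `V` meets the centre, `G` is nilpotent. -/
theorem nilpotent_of_central {G : Type u} [Group G] [Finite G] {φ : A →* MulAut G} {s : ℕ}
    {V : Subgroup G} [V.Normal] (hVi : Inv φ V) (hV : Mod s V)
    (hq : ∀ (W : Subgroup G) [W.Normal], Inv φ W → W ≠ ⊥ → Mod s W → Group.IsNilpotent (G ⧸ W))
    {z : G} (hz : z ∈ V) (hzc : z ∈ center G) (hz1 : z ≠ 1) : Group.IsNilpotent G := by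
  set W := V ⊓ center G
  haveI : W.Normal := inferInstance
  haveI := hq W (hVi.inf (inv_of_char (center G)))
    (fun h0 => hz1 (mem_bot.1 (h0 ▸ (⟨hz, hzc⟩ : z ∈ W))))
    ⟨hV.prime, fun x hx y hy => hV.comm x hx.1 y hy.1, fun x hx => hV.exp x hx.1⟩
  exact Subgroup.isNilpotent_of_ker_le_center (QuotientGroup.mk' W)
    (by rw [QuotientGroup.ker_mk']; exact inf_le_right)

/-- The case of a minimal normal invariant elementary abelian subgroup with nilpotent factor. -/
theorem nilpotent_of_elementary {G : Type u} [Group G] [Finite G] {φ : A →* MulAut G} {F H : Subgroup A}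
    (h : Hyp φ F H) (hsub : ∀ M : Subgroup G, Inv φ M → M ≠ ⊤ → Group.IsNilpotent M)
    (hquot : ∀ (q : ℕ) (W : Subgroup G) [W.Normal], Inv φ W → W ≠ ⊥ → Mod q W →
      Group.IsNilpotent (G ⧸ W))
    {s : ℕ} {V : Subgroup G} [hVn : V.Normal] (hVi : Inv φ V) (hV1 : V ≠ ⊥) (hV : Mod s V) :
    Group.IsNilpotent G := by
  classical
  haveI := Fact.mk hV.prime
  haveI hnilQ := hquot s V hVi hV1 hV
  set f : G →* MulAut V := MulAut.conjNormal (H := V) with hf
  by_cases hrange : IsPGroup s f.range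
  · letI : MulDistribMulAction f.range V := MulDistribMulAction.compHom V f.range.subtype
    haveI : Nontrivial V := (nontrivial_iff_ne_bot V).2 hV1
    obtain ⟨k, hk0, hk⟩ := hV.isPGroup.nontrivial_iff_card.1 inferInstance
    obtain ⟨z, hz, hz1⟩ := hrange.exists_fixed_point_of_prime_dvd_card_of_fixed_point V
      (hk ▸ dvd_pow_self s (by omega)) (a := (1 : V)) (fun γ => smul_one γ)
    refine nilpotent_of_central hVi hV (hquot s) z.2 (mem_center_iff.2 fun g => ?_)
      (fun h0 => hz1 (Subtype.ext h0.symm))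
    have h1 := congrArg Subtype.val (hz ⟨f g, g, rfl⟩)
    change ((f g z : V) : G) = z at h1
    rw [hf, MulAut.conjNormal_apply] at h1
    exact mul_inv_eq_iff_eq_mul.1 h1
  -- a prime `r ≠ s` acting nontrivially on `V`
  obtain ⟨r, hr, hrd, hrs⟩ : ∃ r, r.Prime ∧ r ∣ Nat.card f.range ∧ r ≠ s := by
    by_contra hno
    push Not at hno
    exact hrange (IsPGroup.of_card (Nat.eq_prime_pow_of_unique_prime_dvd Nat.card_pos.ne'
      fun {d} hd hdd => hno d hd hdd))
  haveI := Fact.mk hr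
  obtain ⟨⟨_, g₀, rfl⟩, hg₀⟩ := exists_prime_orderOf_dvd_card' r hrd
  rw [← Subgroup.orderOf_coe] at hg₀
  obtain ⟨n, hn⟩ : ∃ n, orderOf g₀ = r ^ n * (orderOf g₀ / r ^ n) ∧ ¬ r ∣ orderOf g₀ / r ^ n :=
    ⟨(orderOf g₀).factorization r, (Nat.ordProj_mul_ordCompl_eq_self _ r).symm,
      Nat.not_dvd_ordCompl hr (orderOf_pos g₀).ne'⟩
  set g₁ := g₀ ^ (orderOf g₀ / r ^ n)
  have hg₁ : f g₁ ≠ 1 := fun h1 => by
    rw [map_pow] at h1
    have h2 := orderOf_dvd_of_pow_eq_one h1
    rw [show orderOf (f g₀) = r from hg₀] at h2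
    exact hn.2 h2
  have hg₁o : g₁ ^ r ^ n = 1 := by
    rw [← pow_mul, mul_comm, ← hn.1, pow_orderOf_eq_one]
  -- the preimage `M` of the `r`-part of `G ⧸ V`
  obtain ⟨Q⟩ : Nonempty (Sylow r (G ⧸ V)) := inferInstance
  have hQn : (Q : Subgroup (G ⧸ V)).Normal :=
    Sylow.normal_of_normalizerCondition Group.normalizerCondition_of_isNilpotent Q
  haveI : Subsingleton (Sylow r (G ⧸ V)) := by
    haveI := Sylow.unique_of_normal Q hQn
    infer_instance
  have hQmem : ∀ y : G ⧸ V, ∀ k : ℕ, y ^ r ^ k = 1 → y ∈ (Q : Subgroup (G ⧸ V)) := by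
    intro y k hy
    have hz : IsPGroup r (zpowers y) := by
      intro z
      refine ⟨k, Subtype.ext ?_⟩
      obtain ⟨i, hi⟩ := mem_zpowers_iff.1 z.2
      rw [coe_pow, ← hi, ← zpow_natCast, ← zpow_mul, mul_comm, zpow_mul, zpow_natCast, hy, one_zpow]
      rfl
    obtain ⟨Q', hQ'⟩ := hz.exists_le_sylow
    have : Q' = Q := Subsingleton.elim _ _
    exact this ▸ hQ' (mem_zpowers y)
  set M : Subgroup G := (Q : Subgroup (G ⧸ V)).comap (QuotientGroup.mk' V) with hM
  have hMi : Inv φ M := by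
    intro a x hx
    obtain ⟨k, hk⟩ := Q.isPGroup' ⟨_, hx⟩
    have hk' : ((x ^ r ^ k : G) : G ⧸ V) = 1 := congrArg Subtype.val hk
    rw [QuotientGroup.eq_one_iff] at hk'
    refine hQmem _ k ?_
    show ((φ a x : G) : G ⧸ V) ^ r ^ k = 1
    rw [← QuotientGroup.mk_pow, QuotientGroup.eq_one_iff, ← map_pow]
    exact hVi a _ hk'
  have hg₁M : g₁ ∈ M := hQmem _ n (by
    show ((g₁ : G) : G ⧸ V) ^ r ^ n = 1
    rw [← QuotientGroup.mk_pow, hg₁o, QuotientGroup.mk_one])
  by_cases hMtop : M ≠ ⊤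
  · haveI := hsub M hMi hMtop
    exfalso
    refine hg₁ (MulEquiv.ext fun v => Subtype.ext ?_)
    have hvM : (v : G) ∈ M := hQmem _ 0 (by
      show ((v : G) : G ⧸ V) ^ r ^ 0 = 1
      rw [← QuotientGroup.mk_pow, QuotientGroup.eq_one_iff]
      exact pow_mem v.2 _)
    have hco : (orderOf (⟨g₁, hg₁M⟩ : M)).Coprime (orderOf (⟨(v : G), hvM⟩ : M)) := by
      rw [Subgroup.orderOf_mk, Subgroup.orderOf_mk]
      exact Nat.Coprime.coprime_dvd_left (orderOf_dvd_of_pow_eq_one hg₁o)
        (Nat.Coprime.coprime_dvd_right (orderOf_dvd_of_pow_eq_one (hV.exp v v.2))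
          (((Nat.coprime_primes hr hV.prime).2 hrs).pow_left n))
    have hc := congrArg Subtype.val (FGSA.commute_of_coprime_orderOf _ _ hco).eq
    rw [hf, MulAut.conjNormal_apply, MulAut.one_apply]
    exact mul_inv_eq_iff_eq_mul.2 hc
  push Not at hMtop
  have hGV : ∀ x : G, ∃ k, x ^ r ^ k ∈ V := by
    intro x
    obtain ⟨k, hk⟩ := Q.isPGroup' ⟨_, (hMtop ▸ mem_top x : x ∈ M)⟩
    exact ⟨k, (QuotientGroup.eq_one_iff _).1 (show ((x ^ r ^ k : G) : G ⧸ V) = 1 from congrArg Subtype.val hk)⟩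
  -- an invariant complement
  have hdisj : ∀ (P : Sylow r G), ∀ x ∈ (P : Subgroup G), x ∈ V → x = 1 := by
    intro P x hxP hxV
    obtain ⟨k, hk⟩ := P.isPGroup' ⟨x, hxP⟩
    have h1 : x ^ r ^ k = 1 := congrArg Subtype.val hk
    have := pow_gcd_eq_one.2 ⟨hV.exp x hxV, h1⟩
    rwa [(((Nat.coprime_primes hV.prime hr).2 hrs.symm).pow_right k).gcd_eq_one, pow_one] at this
  have hsup : ∀ (P : Sylow r G), ∀ x : G, ∃ v ∈ V, ∃ y ∈ (P : Subgroup G), v * y = x := by
    intro P x
    have htop : V ⊔ (P : Subgroup G) = ⊤ := by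
      rw [← index_eq_one]
      by_contra hne
      obtain ⟨q, hq, hqd⟩ := Nat.exists_prime_and_dvd hne
      have h1 : q ∣ (P : Subgroup G).index := hqd.trans (index_dvd_of_le le_sup_right)
      have h2 : q ∣ V.index := hqd.trans (index_dvd_of_le le_sup_left)
      have hVr : IsPGroup r (G ⧸ V) := fun y => by
        obtain ⟨g, rfl⟩ := QuotientGroup.mk_surjective y
        obtain ⟨k, hk⟩ := hGV g
        exact ⟨k, by rw [← QuotientGroup.mk_pow, QuotientGroup.eq_one_iff]; exact hk⟩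
      obtain ⟨k, hk⟩ := IsPGroup.iff_card.1 hVr
      rw [← index_eq_card] at hk
      rw [hk] at h2
      have : q = r := (Nat.prime_dvd_prime_iff_eq hq hr).1 (hq.dvd_of_dvd_pow h2)
      exact P.not_dvd_index (this ▸ h1)
    exact mem_sup_of_normal_left.1 (htop ▸ mem_top x)
  have hcent : ∀ (P : Sylow r G), ∀ v ∈ V, (∀ y ∈ (P : Subgroup G), y * v = v * y) → v ∈ center G := by
    intro P v hv hc
    refine mem_center_iff.2 fun x => ?_
    obtain ⟨u, hu, y, hy, rfl⟩ := hsup P x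
    calc u * y * v = u * (v * y) := by rw [mul_assoc, hc y hy]
      _ = v * (u * y) := by rw [← mul_assoc, hV.comm u hu v hv, mul_assoc]
  by_cases hZ : ∃ v ∈ V, v ∈ center G ∧ v ≠ 1
  · obtain ⟨v, hv, hvc, hv1⟩ := hZ
    exact nilpotent_of_central hVi hV (hquot s) hv hvc hv1
  push Not at hZ
  have hreg : ∀ (P : Sylow r G), ∀ v ∈ V, v • P = P → v = 1 := by
    intro P v hv hvP
    refine hZ v hv (hcent P v hv fun y hy => ?_)
    have hvy : v * y * v⁻¹ ∈ (P : Subgroup G) := by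
      have := congrArg Sylow.toSubgroup hvP
      exact this.le ⟨y, hy, by simp⟩
    have hmV : (v * y * v⁻¹) * y⁻¹ ∈ V := by
      rw [show v * y * v⁻¹ * y⁻¹ = v * (y * v⁻¹ * y⁻¹) by group]
      exact mul_mem hv (hVn.conj_mem _ (inv_mem hv) y)
    have h1 := hdisj P _ (mul_mem hvy (inv_mem hy)) hmV
    exact (mul_inv_eq_iff_eq_mul.1 (mul_inv_eq_one.1 h1)).symm
  obtain ⟨R, hRF, hRcop, hRn, hRpow⟩ := exists_part h.nil s
  haveI : Group.IsSolvable R := by
    haveI := h.nil
    exact Group.isSolvable_of_isSolvable_injective (inclusion_injective hRF)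
  letI : MulDistribMulAction R V := MulDistribMulAction.compHom V ((restrictInv φ hVi).comp R.subtype)
  letI : MulAction A (Sylow r G) := MulAction.compHom _ φ
  have hact : ∀ (a : A) (g : G) (P : Sylow r G), a • (g • P) = (φ a g) • (a • P) := fun a g P =>
    Coprime.smul_sylow_smul (A := MulAut G) (φ a) g P
  obtain ⟨P, hP⟩ : ∃ P : Sylow r G, ∀ x : R, (x : A) • P = P := by
    refine Coprime.exists_fixed_point_of_transitive (G := V) (A := R) (X := Sylow r G)
      (fun a v P => hact (a : A) (v : G) P) ?_ ⟨fun P Q => ?_⟩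
    · obtain ⟨k, hk⟩ := IsPGroup.iff_card.1 hV.isPGroup
      exact hk ▸ hRcop.pow_right k
    · obtain ⟨g, hg⟩ := MulAction.exists_smul_eq G P Q
      obtain ⟨v, hv, y, hy, rfl⟩ := hsup P g
      refine ⟨⟨v, hv⟩, ?_⟩
      rw [← hg, mul_smul, Sylow.smul_eq_iff_mem_normalizer.2 (le_normalizer hy)]
      rfl
  have hfixR : ∀ v ∈ V, (∀ x ∈ R, φ x v = v) → v = 1 :=
    eq_one_of_part φ hV.isPGroup (fun f _ => hVi f) (fun v _ hh => h.fpf v hh)
      (fun f hf => hRn f (h.mem_normalizer f)) hRpow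
  have huniq : ∀ P' : Sylow r G, (∀ x ∈ R, x • P' = P') → P' = P := by
    intro P' hP'
    obtain ⟨g, hg⟩ := MulAction.exists_smul_eq G P P'
    obtain ⟨v, hv, y, hy, rfl⟩ := hsup P g
    rw [mul_smul, Sylow.smul_eq_iff_mem_normalizer.2 (le_normalizer hy)] at hg
    have hv1 : v = 1 := hfixR v hv fun x hx => by
      have e := hact x v P
      rw [hg, hP ⟨x, hx⟩, hP' x hx, ← hg] at e
      have e2 : (v⁻¹ * φ x v) • P = P := by rw [mul_smul, ← e, inv_smul_smul]
      exact (inv_mul_eq_one.1 (hreg P _ (mul_mem (inv_mem hv) (hVi x v hv)) e2)).symm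
    rw [← hg, hv1, one_smul]
  have hPi : Inv φ (P : Subgroup G) := by
    intro a x hx
    have e : a • P = P := huniq _ fun y hy => by
      have hy' : a⁻¹ * y * a ∈ R := by
        have := (mem_normalizer_iff.1 (inv_mem (hRn a (h.mem_normalizer a))) y).1 hy
        simpa using this
      calc y • a • P = a • (a⁻¹ * y * a) • P := by rw [← mul_smul, ← mul_smul]; congr 1; group
        _ = a • P := by rw [hP ⟨_, hy'⟩]
    exact (congrArg Sylow.toSubgroup e).le (smul_mem_pointwise_smul x (φ a) _ hx)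
  -- the kernel of the action on `V`
  set C : Subgroup G := (P : Subgroup G) ⊓ centralizer (V : Set G) with hC
  have hCi : Inv φ C := by
    refine hPi.inf fun a x hx => ?_
    rw [mem_centralizer_iff] at hx ⊢
    intro v hv
    obtain ⟨v, rfl⟩ := (φ a).surjective v
    rw [← map_mul, ← map_mul, hx v (inv_apply_mem V hVi hv)]
  by_cases hC1 : C ≠ ⊥
  · haveI : C.Normal := ⟨fun x hx g => by
      obtain ⟨u, hu, y, hy, rfl⟩ := hsup P g
      have h1 : y * x * y⁻¹ ∈ C := by
        refine ⟨(P : Subgroup G).mul_mem ((P : Subgroup G).mul_mem hy hx.1) ((P : Subgroup G).inv_mem hy),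
          mem_centralizer_iff.2 fun v hv => ?_⟩
        have hv' : y⁻¹ * v * y ∈ V := by simpa using hVn.conj_mem v hv y⁻¹
        have := mem_centralizer_iff.1 hx.2 _ hv'
        calc v * (y * x * y⁻¹) = y * ((y⁻¹ * v * y) * x) * y⁻¹ := by group
          _ = _ := by rw [this]; group
      rw [show u * y * x * (u * y)⁻¹ = u * (y * x * y⁻¹) * u⁻¹ by group,
        mem_centralizer_iff.1 h1.2 u hu, mul_inv_cancel_right]
      exact h1⟩
    haveI : Group.IsNilpotent (P : Subgroup G) := P.isPGroup'.isNilpotent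
    haveI : Group.IsSolvable C :=
      haveI : Group.IsSolvable (P : Subgroup G) := IsNilpotent.to_isSolvable
      Group.isSolvable_of_isSolvable_injective (inclusion_injective inf_le_left)
    obtain ⟨q, W, hWC, hW1, hWn, hWi, hW⟩ := exists_elementary hCi hC1
    haveI := hWn
    haveI := hquot q W hWi hW1 hW
    refine Subgroup.isNilpotent_of_ker_le_center
      ((QuotientGroup.mk' V).prod (QuotientGroup.mk' W)) fun x hx => ?_
    rw [MonoidHom.mem_ker, MonoidHom.prod_apply, Prod.mk_eq_one, QuotientGroup.mk'_apply,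
      QuotientGroup.mk'_apply, QuotientGroup.eq_one_iff, QuotientGroup.eq_one_iff] at hx
    rw [hdisj P x (hWC hx.2).1 hx.1]
    exact one_mem _
  push Not at hC1
  have hfaith : ∀ y ∈ (P : Subgroup G), (∀ v ∈ V, y * v = v * y) → y = 1 := fun y hy hc =>
    mem_bot.1 (hC1 ▸ (⟨hy, mem_centralizer_iff.2 fun v hv => (hc v hv).symm⟩ : y ∈ C))
  -- the elements of order `r` in the centre of `P`
  have hPne : (P : Subgroup G) ≠ ⊥ := by
    intro h0
    refine hg₁ ?_
    obtain ⟨u, hu, y, hy, hxy⟩ := hsup P g₁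
    rw [h0, mem_bot] at hy
    rw [hy, mul_one] at hxy
    rw [← hxy]
    refine MulEquiv.ext fun v => Subtype.ext ?_
    rw [hf, MulAut.conjNormal_apply, MulAut.one_apply, hV.comm u hu v v.2, mul_inv_cancel_right]
  let Z : Subgroup G :=
    { carrier := {x | x ∈ (P : Subgroup G) ∧ (∀ y ∈ (P : Subgroup G), y * x = x * y) ∧ x ^ r = 1}
      one_mem' := ⟨one_mem _, fun y _ => by simp, one_pow r⟩
      mul_mem' := fun {x z} hx hz => ⟨mul_mem hx.1 hz.1, fun y hy => by
        rw [← mul_assoc, hx.2.1 y hy, mul_assoc, hz.2.1 y hy, mul_assoc],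
        by rw [(show Commute x z from hz.2.1 x hx.1).mul_pow, hx.2.2, hz.2.2, one_mul]⟩
      inv_mem' := fun {x} hx => ⟨inv_mem hx.1, fun y hy =>
        ((show Commute y x from hx.2.1 y hy).inv_right).eq, by rw [inv_pow, hx.2.2, inv_one]⟩ }
  have hZ1 : Z ≠ ⊥ := by
    haveI : Nontrivial (P : Subgroup G) := (nontrivial_iff_ne_bot _).2 hPne
    haveI := P.isPGroup'.center_nontrivial
    obtain ⟨k, hk0, hk⟩ := (P.isPGroup'.to_subgroup (center (P : Subgroup G))).nontrivial_iff_card.1 inferInstance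
    obtain ⟨z, hz⟩ := exists_prime_orderOf_dvd_card' r (hk ▸ dvd_pow_self r (by omega) : r ∣ Nat.card (center (P : Subgroup G)))
    intro h0
    have hzZ : ((z : (P : Subgroup G)) : G) ∈ Z := ⟨(z : (P : Subgroup G)).2,
      fun y hy => congrArg Subtype.val (mem_center_iff.1 z.2 ⟨y, hy⟩),
      by rw [← coe_pow, ← coe_pow, orderOf_dvd_iff_pow_eq_one.1 hz.dvd]; rfl⟩
    rw [h0, mem_bot] at hzZ
    have : z = 1 := Subtype.ext (Subtype.ext hzZ)
    rw [this, orderOf_one] at hz
    exact hr.one_lt.ne hz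
  have hZP : Z = (P : Subgroup G) := by
    by_contra hne
    have hZi : Inv φ Z := fun a x hx => ⟨hPi a x hx.1, fun y hy => by
      obtain ⟨y, rfl⟩ := (φ a).surjective y
      rw [← map_mul, ← map_mul, hx.2.1 y (inv_apply_mem _ hPi hy)], by rw [← map_pow, hx.2.2, map_one]⟩
    have hMtop' : V ⊔ Z ≠ ⊤ := by
      intro htop
      apply hne
      refine le_antisymm (fun x hx => hx.1) fun y hy => ?_
      obtain ⟨v, hv, z, hz, rfl⟩ := mem_sup_of_normal_left.1 (htop ▸ mem_top y : y ∈ V ⊔ Z)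
      have hv1 : v = 1 := hdisj P v (by
        have := (P : Subgroup G).mul_mem hy ((P : Subgroup G).inv_mem hz.1)
        rwa [mul_inv_cancel_right] at this) hv
      rw [hv1, one_mul]
      exact hz
    have hVZi : Inv φ (V ⊔ Z) := fun a x hx =>
      (sup_le (fun v hv => mem_sup_left (hVi a v hv)) (fun z hz => mem_sup_right (hZi a z hz)) :
        V ⊔ Z ≤ (V ⊔ Z).comap (φ a).toMonoidHom) hx
    haveI := hsub _ hVZi hMtop'
    refine hZ1 (eq_bot_iff.2 fun z hz => mem_bot.2 (hfaith z hz.1 fun v hv => ?_))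
    refine congrArg Subtype.val (FGSA.commute_of_coprime_orderOf
      (⟨z, mem_sup_right hz⟩ : (V ⊔ Z : Subgroup G)) ⟨v, mem_sup_left hv⟩ ?_).eq
    rw [Subgroup.orderOf_mk, Subgroup.orderOf_mk]
    exact Nat.Coprime.coprime_dvd_left (orderOf_dvd_of_pow_eq_one hz.2.2)
      (Nat.Coprime.coprime_dvd_right (orderOf_dvd_of_pow_eq_one (hV.exp v hv))
        ((Nat.coprime_primes hr hV.prime).2 hrs))
  have hPel : ∀ x ∈ (P : Subgroup G), (∀ y ∈ (P : Subgroup G), y * x = x * y) ∧ x ^ r = 1 :=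
    fun x hx => (hZP.ge hx).2
  have hpair : Pair φ s r V (P : Subgroup G) :=
    ⟨hV, ⟨hr, fun x hx y hy => (hPel y hy).1 x hx, fun x hx => (hPel x hx).2⟩, hrs,
      fun k _ v hv => hVn.conj_mem v hv k, fun v hv hc => hZ v hv (hcent P v hv hc), hVi, hPi⟩
  have hgen := hpair.modP.generation φ h.nil (fun f _ => hPi f) (fun a _ => hPi a)
    (fun a _ => h.mem_normalizer a) h.semi (fun v _ hv => h.fpf v hv)
  exfalso
  refine hPne (eq_bot_iff.2 (hgen.trans ((closure_le _).2 ?_)))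
  rintro x ⟨f', -, c, ⟨hcP, hcH⟩, rfl⟩
  suffices hc1 : c = 1 by rw [hc1, map_one]; exact one_mem _
  refine hfaith c hcP (hpair.centralizes h ?_ hcP hcH)
  intro c' hc' hc'H z hz hzH
  haveI := h.cnil
  refine congrArg Subtype.val (FGSA.commute_of_coprime_orderOf (⟨c', hc'H⟩ : fixS φ H) ⟨z, hzH⟩ ?_).eq
  rw [Subgroup.orderOf_mk, Subgroup.orderOf_mk]
  exact Nat.Coprime.coprime_dvd_left (orderOf_dvd_of_pow_eq_one (hPel c' hc').2)
    (Nat.Coprime.coprime_dvd_right (orderOf_dvd_of_pow_eq_one (hV.exp z hz))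
      ((Nat.coprime_primes hr hV.prime).2 hrs))

/-- The theorem. -/
theorem Hyp.isNilpotent : ∀ {G : Type u} [Group G] [Finite G] {φ : A →* MulAut G} {F H : Subgroup A},
    Hyp φ F H → Group.IsNilpotent G := by
  intro G _ _
  induction hn : Nat.card G using Nat.strong_induction_on generalizing G with
  | _ n IH =>
  intro φ F H h
  classical
  have hsub : ∀ M : Subgroup G, Inv φ M → M ≠ ⊤ → Group.IsNilpotent M := fun M hM hne =>
    IH (Nat.card M) (hn ▸ Solvable.card_lt_of_ne_top hne) (G := M) rfl (h.restrict hM)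
  have hquot : ∀ (q : ℕ) (W : Subgroup G) [W.Normal], Inv φ W → W ≠ ⊥ → Mod q W →
      Group.IsNilpotent (G ⧸ W) := by
    intro q W hWn hWi hW1 hW
    obtain ⟨ψ, hψ⟩ := h.quotient hW hWi
    refine IH (Nat.card (G ⧸ W)) ?_ (G := G ⧸ W) rfl hψ
    rw [← hn, card_eq_card_quotient_mul_card_subgroup W]
    exact lt_mul_of_one_lt_right Nat.card_pos ((one_lt_card_iff_ne_bot W).2 hW1)
  by_cases hex : ∃ U : Subgroup G, U.Normal ∧ Inv φ U ∧ U ≠ ⊥ ∧ Group.IsSolvable U
  · obtain ⟨U, hUn, hUi, hU1, hUs⟩ := hex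
    haveI := hUn
    haveI := hUs
    obtain ⟨s, V, -, hV1, hVn, hVi, hV⟩ := exists_elementary hUi hU1
    haveI := hVn
    exact nilpotent_of_elementary h hsub hquot hVi hV1 hV
  push Not at hex
  have hnn : ∀ q : ℕ, q.Prime → ∀ U : Subgroup G, U.Normal → Inv φ U → IsPGroup q U → U = ⊥ := by
    intro q hq U hUn hUi hUp
    by_contra hU1
    haveI := Fact.mk hq
    haveI : Group.IsNilpotent U := hUp.isNilpotent
    exact hex U hUn hUi hU1 IsNilpotent.to_isSolvable
  by_cases h2 : ∀ q : ℕ, q.Prime → q ∣ Nat.card G → q = 2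
  · haveI : Fact (Nat.Prime 2) := ⟨Nat.prime_two⟩
    exact (IsPGroup.of_card (n := (Nat.card G).primeFactorsList.length)
      (Nat.eq_prime_pow_of_unique_prime_dvd Nat.card_pos.ne' fun {d} hd hdd => h2 d hd hdd) :
      IsPGroup 2 G).isNilpotent
  push Not at h2
  obtain ⟨p, hp, hpd, hp2⟩ := h2
  exfalso
  obtain ⟨q, _, S, hq2, hqd, hSi⟩ := exists_invariant_sylow_odd h hsub hnn hp hp2 hpd
  have hq : q.Prime := Fact.out
  have K := ZJ.zkind_centerThompsonA.{u} (p := q) hq2
  set Z := Cfsg.centerThompsonAOf (S : Subgroup G) with hZdef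
  have hS1 : (S : Subgroup G) ≠ ⊥ := S.ne_bot_of_dvd_card hqd
  have hZ1 : Z ≠ ⊥ := K.ne_bot G _ S.2 hS1
  have hZi : Inv φ Z := by
    intro a x hx
    have hcS : (S : Subgroup G).map (φ a).toMonoidHom = S :=
      eq_of_le_of_card_ge (map_le_iff_le_comap.2 (hSi a))
        (card_map_of_injective (f := (φ a).toMonoidHom) (φ a).injective).ge
    have hcZ : Z.map (φ a).toMonoidHom = Z := by
      rw [hZdef, ← K.map G G (φ a).toMonoidHom S (φ a).injective, hcS]
    exact hcZ ▸ mem_map_of_mem (φ a).toMonoidHom hx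
  by_cases hN : normalizer (Z : Set G) = ⊤
  · haveI : Group.IsSolvable Z := Group.isSolvable_of_comm fun a b =>
      Subtype.ext (K.comm G _ a a.2 b b.2)
    exact hex Z (normalizer_eq_top_iff.1 hN) hZi hZ1 inferInstance
  haveI := hsub _ hZi.normalizer' hN
  have hG := FGSA.GT.hasNormalPComplement hq2 S FGSA.GT.npc_of_isNilpotent
  set R := Cfsg.pResidual q G with hRdef
  have hR : R ≠ ⊤ := by
    intro htop
    have h1 := PResidual.hasNormalPComplement_iff.1 hG
    rw [← hRdef, htop, card_top] at h1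
    exact hq.one_lt.ne' (Nat.eq_one_of_dvd_coprimes h1 hqd dvd_rfl)
  have hRi : Inv φ R := fun a x hx =>
    PResidual.map_pResidual_le (p := q) (φ a).toMonoidHom (mem_map_of_mem (φ a).toMonoidHom hx)
  haveI := hsub R hRi hR
  haveI : R.Normal := by rw [hRdef]; infer_instance
  haveI : Group.IsSolvable R := IsNilpotent.to_isSolvable
  have hR1 : R = ⊥ := by
    by_contra h0
    exact hex R inferInstance hRi h0 inferInstance
  have hGp : IsPGroup q G := fun x => by
    obtain ⟨k, hk⟩ := PResidual.isPGroup_quotient_pResidual (p := q) (G := G) ((x : G) : G ⧸ R)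
    refine ⟨k, ?_⟩
    rw [← QuotientGroup.mk_pow, QuotientGroup.eq_one_iff, hR1, mem_bot] at hk
    exact hk
  refine hS1 (le_bot_iff.1 (le_top.trans (hnn q hq ⊤ inferInstance (fun a u _ => mem_top _) ?_).le))
  exact hGp.to_subgroup ⊤

end CfsgLib.FrobFix
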