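import Cfsg.Agent.FGSA.GTCriterion
import Cfsg.Agent.Coprime.Basic
import Cfsg.Agent.Transfer.PResidual
import Cfsg.Agent.CentClass.Nilp

/-!
# Frobenius groups acting fixed point freely: the module lemmas
-/

set_option autoImplicit false
set_option linter.style.haveILetI false
set_option linter.unusedSectionVars false

namespace CfsgLib.FrobFix

open Subgroup

universe u v

variable {A : Type v} [Group A]

/-- `H` acts semiregularly by conjugation on `F`. -/
def Semi (F H : Subgroup A) : Prop := ∀ h ∈ H, h ≠ 1 → ∀ f ∈ F, h * f * h⁻¹ = f → f = 1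

/-- The part of a nilpotent subgroup of order prime to `s`. -/
theorem exists_part [Finite A] {F : Subgroup A} (hF : Group.IsNilpotent F) (s : ℕ) [Fact s.Prime] :
    ∃ R : Subgroup A, R ≤ F ∧ (Nat.card R).Coprime s ∧ (∀ a ∈ normalizer (F : Set A), a ∈ normalizer (R : Set A)) ∧
      ∀ f ∈ F, ∃ k, f ^ s ^ k ∈ R := by
  haveI := hF
  set R₀ := Cfsg.pResidual s F with hR₀
  refine ⟨R₀.map F.subtype, map_subtype_le R₀, ?_, fun a ha => ?_, fun f hf => ?_⟩
  · rw [card_map_of_injective F.subtype_injective]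
    exact PResidual.hasNormalPComplement_iff.1 FGSA.GT.npc_of_isNilpotent
  · have hconj : ∀ x ∈ F, a * x * a⁻¹ ∈ F := fun x hx => (mem_normalizer_iff.1 ha x).1 hx
    let e : F →* F := MonoidHom.mk' (fun x => ⟨a * x * a⁻¹, hconj x x.2⟩) fun x y =>
      Subtype.ext (by simp [mul_assoc])
    have hle : ∀ x ∈ R₀.map F.subtype, a * x * a⁻¹ ∈ R₀.map F.subtype := by
      rintro _ ⟨x, hx, rfl⟩
      exact ⟨e x, PResidual.map_pResidual_le (p := s) e (mem_map_of_mem e hx), rfl⟩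
    rw [mem_normalizer_iff]
    intro x
    refine ⟨hle x, fun hx => ?_⟩
    have hsub : (R₀.map F.subtype).map (MulAut.conj a).toMonoidHom ≤ R₀.map F.subtype := by
      rintro _ ⟨y, hy, rfl⟩
      exact hle y hy
    have heq := eq_of_le_of_card_ge hsub
      (card_map_of_injective (f := (MulAut.conj a).toMonoidHom) (MulAut.conj a).injective).ge
    rw [← heq] at hx
    obtain ⟨y, hy, hyx⟩ := hx
    have : y = x := (MulAut.conj a).injective hyx
    exact this ▸ hy
  · obtain ⟨k, hk⟩ := PResidual.isPGroup_quotient_pResidual (p := s) (G := F) ((⟨f, hf⟩ : F) : F ⧸ R₀)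
    rw [← QuotientGroup.mk_pow, QuotientGroup.eq_one_iff] at hk
    exact ⟨k, ⟨_, hk, rfl⟩⟩

variable {G : Type u} [Group G] (φ : A →* MulAut G)

/-- Elements fixed by a set of automorphisms. -/
def fixS (S : Subgroup A) : Subgroup G := ⨅ a ∈ S, (φ a).toMonoidHom.eqLocus (MonoidHom.id G)

theorem mem_fixS {S : Subgroup A} {g : G} : g ∈ fixS φ S ↔ ∀ a ∈ S, φ a g = g := by
  simp only [fixS, Subgroup.mem_iInf]; rfl

theorem fixS_mono {S T : Subgroup A} (h : S ≤ T) : fixS φ T ≤ fixS φ S := fun g hg => by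
  rw [mem_fixS] at hg ⊢
  exact fun a ha => hg a (h ha)

/-- An abelian `s`-subgroup invariant under `S` and under all of `F`. -/
structure Mod (s : ℕ) (V : Subgroup G) : Prop where
  prime : s.Prime
  comm : ∀ x ∈ V, ∀ y ∈ V, x * y = y * x
  exp : ∀ x ∈ V, x ^ s = 1

theorem Mod.isPGroup {s : ℕ} {V : Subgroup G} (hV : Mod s V) : IsPGroup s V :=
  fun x => ⟨1, Subtype.ext (by simpa using hV.exp x x.2)⟩

variable [Finite A] [Finite G]

/-- The part prime to `s` has no fixed points if `F` has none. -/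
theorem eq_one_of_part {F R : Subgroup A} {s : ℕ} [Fact s.Prime] {V : Subgroup G} (hV : IsPGroup s V)
    (hVF : ∀ f ∈ F, ∀ v ∈ V, φ f v ∈ V) (hfpf : ∀ v ∈ V, (∀ f ∈ F, φ f v = v) → v = 1)
    (hRn : ∀ f ∈ F, f ∈ normalizer (R : Set A)) (hpow : ∀ f ∈ F, ∃ k, f ^ s ^ k ∈ R) :
    ∀ v ∈ V, (∀ r ∈ R, φ r v = v) → v = 1 := by
  classical
  intro v hv hvR
  by_contra hv1
  set W : Subgroup G := V ⊓ fixS φ R with hW
  have hWF : CentClass.Inv (A := Unit) (G := G) 1 W := fun _ u hu => by simpa using hu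
  have hWi : ∀ f ∈ F, ∀ w ∈ W, φ f w ∈ W := by
    intro f hf w hw
    refine ⟨hVF f hf w hw.1, (mem_fixS φ).2 fun r hr => ?_⟩
    have hr' : f⁻¹ * r * f ∈ R := by
      have := (mem_normalizer_iff.1 (inv_mem (hRn f hf)) r).1 hr
      simpa using this
    calc φ r (φ f w) = φ (f * (f⁻¹ * r * f)) w := by
          rw [← MulAut.mul_apply, ← map_mul]; congr 2; group
      _ = φ f w := by rw [map_mul, MulAut.mul_apply, (mem_fixS φ).1 hw.2 _ hr']
  let ψ : F →* MulAut W :=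
    { toFun := fun f =>
        { toFun := fun w => ⟨φ (f : A) w, hWi f f.2 w w.2⟩
          invFun := fun w => ⟨φ ((f⁻¹ : F) : A) w, hWi _ (f⁻¹ : F).2 w w.2⟩
          left_inv := fun w => Subtype.ext (by
            show φ ((f⁻¹ : F) : A) (φ (f : A) (w : G)) = w
            rw [← MulAut.mul_apply, ← map_mul, coe_inv, inv_mul_cancel, map_one, MulAut.one_apply])
          right_inv := fun w => Subtype.ext (by
            show φ (f : A) (φ ((f⁻¹ : F) : A) (w : G)) = w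
            rw [← MulAut.mul_apply, ← map_mul, coe_inv, mul_inv_cancel, map_one, MulAut.one_apply])
          map_mul' := fun x y => Subtype.ext (map_mul (φ (f : A)) (x : G) y) }
      map_one' := MulEquiv.ext fun w => Subtype.ext (by
        show φ ((1 : F) : A) (w : G) = w
        rw [coe_one, map_one, MulAut.one_apply])
      map_mul' := fun f g => MulEquiv.ext fun w => Subtype.ext (by
        show φ ((f * g : F) : A) (w : G) = φ (f : A) (φ (g : A) (w : G))
        rw [coe_mul, map_mul, MulAut.mul_apply]) }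
  have hrange : IsPGroup s ψ.range := by
    rintro ⟨_, f, rfl⟩
    obtain ⟨k, hk⟩ := hpow f f.2
    refine ⟨k, Subtype.ext ?_⟩
    rw [SubgroupClass.coe_pow, ← map_pow]
    refine MulEquiv.ext fun w => Subtype.ext ?_
    show φ ((f ^ s ^ k : F) : A) (w : G) = w
    exact (mem_fixS φ).1 w.2.2 _ (by simpa using hk)
  letI : MulDistribMulAction ψ.range W := MulDistribMulAction.compHom W ψ.range.subtype
  have hWp : IsPGroup s W := hV.to_le inf_le_left
  haveI : Nontrivial W :=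
    ⟨⟨⟨v, hv, (mem_fixS φ).2 hvR⟩, 1, fun h => hv1 (congrArg Subtype.val h)⟩⟩
  obtain ⟨k, hk0, hk⟩ := hWp.nontrivial_iff_card.1 inferInstance
  obtain ⟨z, hz, hz1⟩ := hrange.exists_fixed_point_of_prime_dvd_card_of_fixed_point W
    (hk ▸ dvd_pow_self s (by omega)) (a := (1 : W)) (fun γ => smul_one γ)
  exact hz1 (Subtype.ext (hfpf z z.2.1 fun f hf =>
    congrArg Subtype.val (hz ⟨ψ ⟨f, hf⟩, _, rfl⟩)).symm)

/-- The averaging identity for a semiregular pair. -/
theorem Mod.trace_identity {s : ℕ} {V : Subgroup G} (hV : Mod s V) {R H : Subgroup A}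
    (hVR : ∀ r ∈ R, ∀ v ∈ V, φ r v ∈ V) (hVH : ∀ h ∈ H, ∀ v ∈ V, φ h v ∈ V)
    (hH : ∀ h ∈ H, h ∈ normalizer (R : Set A)) (hsemi : Semi R H) (hcop : (Nat.card R).Coprime s)
    (hfix : ∀ v ∈ V, (∀ r ∈ R, φ r v = v) → v = 1) {v : G} (hv : v ∈ V) :
    v ∈ closure {x | ∃ r ∈ R, ∃ c ∈ V ⊓ fixS φ H, x = φ r c} := by
  classical
  letI : CommGroup V := { (inferInstance : Group V) with
    mul_comm := fun y z => Subtype.ext (hV.comm _ y.2 _ z.2) }
  letI := Fintype.ofFinite R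
  letI := Fintype.ofFinite H
  let T : G → G := fun u => if hu : u ∈ V then ((∏ h : H, (⟨φ h u, hVH h h.2 u hu⟩ : V) : V) : G) else 1
  have hT : ∀ u (hu : u ∈ V), T u ∈ V ⊓ fixS φ H := by
    intro u hu
    simp only [T, dif_pos hu]
    refine ⟨SetLike.coe_mem _, (mem_fixS φ).2 fun a ha => ?_⟩
    let e : V →* V := MonoidHom.mk' (fun x => ⟨φ a x, hVH a ha x x.2⟩)
      fun x y => Subtype.ext (map_mul (φ a) (x : G) y)
    show ((e (∏ h : H, (⟨φ h u, hVH h h.2 u hu⟩ : V)) : V) : G) = _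
    rw [map_prod]
    refine congrArg Subtype.val (Fintype.prod_equiv (Equiv.mulLeft (⟨a, ha⟩ : H)) _ _ fun h => ?_)
    refine Subtype.ext ?_
    show φ a (φ (h : A) u) = φ (a * h) u
    rw [map_mul, MulAut.mul_apply]
  -- the double product
  set P : V := ∏ r : R, ∏ h : H, (⟨φ (r * h * (r : A)⁻¹) v,
    by rw [map_mul, map_mul, MulAut.mul_apply, MulAut.mul_apply]
       exact hVR r r.2 _ (hVH h h.2 _ (hVR _ (inv_mem r.2) v hv))⟩ : V) with hP
  have hmem : (P : G) ∈ closure {x | ∃ r ∈ R, ∃ c ∈ V ⊓ fixS φ H, x = φ r c} := by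
    let S : Subgroup V := (closure {x | ∃ r ∈ R, ∃ c ∈ V ⊓ fixS φ H, x = φ r c}).comap V.subtype
    refine (Subgroup.prod_mem S fun r _ => ?_ : P ∈ S)
    have hu : φ ((r : A)⁻¹) v ∈ V := hVR _ (inv_mem r.2) v hv
    show ((∏ h : H, _ : V) : G) ∈ Subgroup.closure _
    refine subset_closure ⟨r, r.2, T (φ ((r : A)⁻¹) v), hT _ hu, ?_⟩
    simp only [T, dif_pos hu]
    let e : V →* V := MonoidHom.mk' (fun x => ⟨φ r x, hVR r r.2 x x.2⟩)
      fun x y => Subtype.ext (map_mul (φ r) (x : G) y)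
    show _ = ((e _ : V) : G)
    rw [map_prod]
    refine congrArg Subtype.val (Finset.prod_congr rfl fun h _ => Subtype.ext ?_)
    show φ (r * h * (r : A)⁻¹) v = φ (r : A) (φ (h : A) (φ ((r : A)⁻¹) v))
    rw [map_mul, map_mul, MulAut.mul_apply, MulAut.mul_apply]
  have heq : P = (⟨v, hv⟩ : V) ^ Nat.card R := by
    rw [hP, Finset.prod_comm, Finset.prod_eq_single (1 : H)]
    · rw [Nat.card_eq_fintype_card, ← Finset.card_univ, ← Finset.prod_const]
      exact Finset.prod_congr rfl fun r _ => Subtype.ext (by simp)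
    · intro h _ hh
      have hmap : ∀ r : R, (r : A) * h * (r : A)⁻¹ * (h : A)⁻¹ ∈ R := fun r => by
        rw [show (r : A) * h * (r : A)⁻¹ * (h : A)⁻¹ = r * (h * (r : A)⁻¹ * (h : A)⁻¹) by group]
        exact R.mul_mem r.2 ((mem_normalizer_iff.1 (hH h h.2) _).1 (inv_mem r.2))
      have hbij : Function.Bijective fun r : R => (⟨_, hmap r⟩ : R) := by
        refine Finite.injective_iff_bijective.1 fun r₁ r₂ he => ?_
        have he' : (r₁ : A) * h * (r₁ : A)⁻¹ * (h : A)⁻¹ = r₂ * h * (r₂ : A)⁻¹ * (h : A)⁻¹ :=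
          congrArg Subtype.val he
        have h2 : (h : A) * ((r₂ : A)⁻¹ * r₁) * (h : A)⁻¹ = (r₂ : A)⁻¹ * r₁ := by
          have h3 : (r₂ : A)⁻¹ * ((r₁ : A) * h * (r₁ : A)⁻¹) = h * (r₂ : A)⁻¹ := by
            rw [mul_right_cancel he']; group
          calc (h : A) * ((r₂ : A)⁻¹ * r₁) * (h : A)⁻¹
              = h * (r₂ : A)⁻¹ * r₁ * (h : A)⁻¹ := by group
            _ = (r₂ : A)⁻¹ * ((r₁ : A) * h * (r₁ : A)⁻¹) * r₁ * (h : A)⁻¹ := by rw [h3]
            _ = (r₂ : A)⁻¹ * r₁ := by group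
        have := hsemi h h.2 (fun e => hh (Subtype.ext e)) _ (R.mul_mem (R.inv_mem r₂.2) r₁.2) h2
        exact (Subtype.ext (inv_mul_eq_one.1 this)).symm
      rw [Fintype.prod_equiv (Equiv.ofBijective _ hbij) _
        (fun r : R => (⟨φ r (φ h v), hVR r r.2 _ (hVH h h.2 v hv)⟩ : V)) fun r => Subtype.ext (by
          show φ (r * h * (r : A)⁻¹) v = φ ((r : A) * h * (r : A)⁻¹ * (h : A)⁻¹) (φ h v)
          rw [← MulAut.mul_apply, ← map_mul, inv_mul_cancel_right])]
      refine Subtype.ext (hfix _ (SetLike.coe_mem _) fun a ha => ?_)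
      let e : V →* V := MonoidHom.mk' (fun x => ⟨φ a x, hVR a ha x x.2⟩)
        fun x y => Subtype.ext (map_mul (φ a) (x : G) y)
      show ((e _ : V) : G) = _
      rw [map_prod]
      refine congrArg Subtype.val (Fintype.prod_equiv (Equiv.mulLeft (⟨a, ha⟩ : R)) _ _ fun r => ?_)
      refine Subtype.ext ?_
      show φ a (φ r (φ h v)) = φ (a * r) (φ h v)
      simp only [map_mul, MulAut.mul_apply]
    · exact fun h => absurd (Finset.mem_univ _) h
  rw [heq, coe_pow] at hmem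
  refine Coprime.mem_of_pow_mem_of_coprime ?_ hmem
  exact hcop.coprime_dvd_right (orderOf_dvd_of_pow_eq_one (hV.exp v hv))

/-- A semiregular pair with no fixed points of the kernel: the complement has fixed points and
they generate. -/
theorem Mod.generation {s : ℕ} {V : Subgroup G} (hV : Mod s V) {F H : Subgroup A}
    (hF : Group.IsNilpotent F) (hVF : ∀ f ∈ F, ∀ v ∈ V, φ f v ∈ V)
    (hVH : ∀ h ∈ H, ∀ v ∈ V, φ h v ∈ V)
    (hH : ∀ h ∈ H, h ∈ normalizer (F : Set A)) (hsemi : Semi F H)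
    (hfpf : ∀ v ∈ V, (∀ f ∈ F, φ f v = v) → v = 1) :
    V ≤ closure {x | ∃ f ∈ F, ∃ c ∈ V ⊓ fixS φ H, x = φ f c} := by
  haveI := Fact.mk hV.prime
  obtain ⟨R, hRF, hcop, hRn, hpow⟩ := exists_part hF s
  have hfix := eq_one_of_part φ hV.isPGroup hVF hfpf
    (fun f hf => hRn f (le_normalizer hf)) hpow
  intro v hv
  refine closure_mono ?_ (hV.trace_identity φ (fun r hr => hVF r (hRF hr)) hVH
    (fun h hh => hRn h (hH h hh)) (fun h hh h1 f hf => hsemi h hh h1 f (hRF hf)) hcop hfix hv)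
  rintro x ⟨r, hr, c, hc, rfl⟩
  exact ⟨r, hRF hr, c, hc, rfl⟩

theorem Mod.fixed_ne_bot {s : ℕ} {V : Subgroup G} (hV : Mod s V) {F H : Subgroup A}
    (hF : Group.IsNilpotent F) (hVF : ∀ f ∈ F, ∀ v ∈ V, φ f v ∈ V)
    (hVH : ∀ h ∈ H, ∀ v ∈ V, φ h v ∈ V)
    (hH : ∀ h ∈ H, h ∈ normalizer (F : Set A)) (hsemi : Semi F H)
    (hfpf : ∀ v ∈ V, (∀ f ∈ F, φ f v = v) → v = 1) (hV1 : V ≠ ⊥) :
    ∃ c ∈ V, c ∈ fixS φ H ∧ c ≠ 1 := by
  by_contra hno
  push Not at hno
  refine hV1 (eq_bot_iff.2 ((hV.generation φ hF hVF hVH hH hsemi hfpf).trans ((closure_le _).2 ?_)))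
  rintro x ⟨f, -, c, hc, rfl⟩
  rw [hno c hc.1 hc.2, map_one]
  exact one_mem _

/-- Fixed points of the complement lift over `V`. -/
theorem Mod.exists_lift {s : ℕ} {V : Subgroup G} (hV : Mod s V) {F H : Subgroup A}
    (hF : Group.IsNilpotent F) (hVF : ∀ f ∈ F, ∀ v ∈ V, φ f v ∈ V)
    (hVH : ∀ h ∈ H, ∀ v ∈ V, φ h v ∈ V)
    (hH : ∀ h ∈ H, h ∈ normalizer (F : Set A)) (hsemi : Semi F H)
    (hfpf : ∀ v ∈ V, (∀ f ∈ F, φ f v = v) → v = 1) (g : G) (hg : ∀ h ∈ H, g⁻¹ * φ h g ∈ V) :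
    ∃ c, c ∈ fixS φ H ∧ g⁻¹ * c ∈ V := by
  classical
  haveI := Fact.mk hV.prime
  obtain ⟨R, hRF, -, hRn, hpow⟩ := exists_part hF s
  have hfix := eq_one_of_part φ hV.isPGroup hVF hfpf
    (fun f hf => hRn f (le_normalizer hf)) hpow
  letI : CommGroup V := { (inferInstance : Group V) with
    mul_comm := fun y z => Subtype.ext (hV.comm _ y.2 _ z.2) }
  letI := Fintype.ofFinite R
  letI := Fintype.ofFinite H
  have hconj : ∀ (h : H) (r : R), (h : A) * r * (h : A)⁻¹ ∈ R := fun h r =>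
    (mem_normalizer_iff.1 (hRn h (hH h h.2)) _).1 r.2
  letI : MulAction H {r : R // r ≠ 1} :=
    { smul := fun h r => ⟨⟨_, hconj h r.1⟩, fun e => r.2 (Subtype.ext (by
        have e' : (h : A) * r.1 * (h : A)⁻¹ = 1 := congrArg Subtype.val e
        rwa [conj_eq_one_iff] at e'))⟩
      one_smul := fun r => Subtype.ext (Subtype.ext (by
        show ((1 : H) : A) * r.1 * ((1 : H) : A)⁻¹ = r.1
        simp))
      mul_smul := fun h k r => Subtype.ext (Subtype.ext (by
        show ((h * k : H) : A) * r.1 * ((h * k : H) : A)⁻¹ = h * (k * r.1 * (k : A)⁻¹) * (h : A)⁻¹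
        simp [mul_assoc])) }
  let Q := Quotient (MulAction.orbitRel H {r : R // r ≠ 1})
  letI := Fintype.ofFinite Q
  have hbij : Function.Bijective fun x : H × Q => x.1 • (x.2.out : {r : R // r ≠ 1}) := by
    refine ⟨?_, fun r => ?_⟩
    · rintro ⟨h₁, q₁⟩ ⟨h₂, q₂⟩ he
      have he' : h₁ • q₁.out = h₂ • q₂.out := he
      have hq : q₁ = q₂ := by
        rw [← Quotient.out_eq q₁, ← Quotient.out_eq q₂]
        exact Quotient.sound (MulAction.orbitRel_apply.2 ⟨h₁⁻¹ * h₂, by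
          show (h₁⁻¹ * h₂) • q₂.out = q₁.out
          rw [mul_smul, ← he', inv_smul_smul]⟩)
      subst hq
      have h2 : (h₁⁻¹ * h₂) • q₁.out = q₁.out := by rw [mul_smul, ← he', inv_smul_smul]
      by_contra hne
      have hne' : ((h₁⁻¹ * h₂ : H) : A) ≠ 1 := fun e => hne (by
        rw [inv_mul_eq_one.1 (Subtype.ext e : h₁⁻¹ * h₂ = 1)])
      exact q₁.out.2 (Subtype.ext (hsemi _ (h₁⁻¹ * h₂).2 hne' _ (hRF q₁.out.1.2)
        (congrArg Subtype.val (congrArg Subtype.val h2))))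
    · set q : Q := Quotient.mk _ r
      obtain ⟨h, hh⟩ := MulAction.orbitRel_apply.1 (Quotient.exact (Quotient.out_eq q).symm :
        (MulAction.orbitRel H {r : R // r ≠ 1}) r q.out)
      exact ⟨(h, q), hh⟩
  let ω : V →* V := MonoidHom.mk'
    (fun w => (∏ q : Q, (⟨φ (q.out.1 : A) w, hVF _ (hRF q.out.1.2) w w.2⟩ : V))⁻¹)
    fun x y => by
      rw [← mul_inv, ← Finset.prod_mul_distrib]
      exact congrArg (·⁻¹) (Finset.prod_congr rfl fun q _ => Subtype.ext (map_mul _ (x : G) y))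
  let act : H → V →* V := fun h => MonoidHom.mk' (fun w => ⟨φ (h : A) w, hVH h h.2 w w.2⟩)
    fun x y => Subtype.ext (map_mul _ (x : G) y)
  have hone : ∀ w : V, ∏ h : H, act h (ω (act h⁻¹ w)) = w := by
    intro w
    have e1 : ∀ h : H, act h (ω (act h⁻¹ w)) =
        (∏ q : Q, (⟨φ ((h • q.out).1 : A) w, hVF _ (hRF (h • q.out).1.2) w w.2⟩ : V))⁻¹ := by
      intro h
      show act h (∏ q : Q, _)⁻¹ = _
      rw [map_inv, map_prod]
      refine congrArg (·⁻¹) (Finset.prod_congr rfl fun q _ => Subtype.ext ?_)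
      show φ (h : A) (φ (q.out.1 : A) (φ ((h⁻¹ : H) : A) (w : G))) = φ ((h : A) * q.out.1 * (h : A)⁻¹) w
      rw [map_mul, map_mul, MulAut.mul_apply, MulAut.mul_apply, coe_inv]
    simp only [e1]
    rw [Finset.prod_inv_distrib, ← Fintype.prod_prod_type',
      hbij.prod_comp (fun r : {r : R // r ≠ 1} => (⟨φ (r.1 : A) w, hVF _ (hRF r.1.2) w w.2⟩ : V)),
      inv_eq_iff_mul_eq_one]
    rw [← Finset.prod_subtype (Finset.univ.erase (1 : R)) (by simp)
      (fun r : R => (⟨φ (r : A) w, hVF _ (hRF r.2) w w.2⟩ : V))]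
    have h1 : (⟨φ ((1 : R) : A) w, hVF _ (hRF (1 : R).2) w w.2⟩ : V) = w := Subtype.ext (by simp)
    conv_lhs => arg 2; rw [← h1]
    rw [mul_comm (G := V), Finset.mul_prod_erase Finset.univ (fun r : R => (⟨φ (r : A) w, hVF _ (hRF r.2) w w.2⟩ : V))
      (Finset.mem_univ (1 : R))]
    refine Subtype.ext (hfix _ (SetLike.coe_mem _) fun a ha => ?_)
    let e : V →* V := MonoidHom.mk' (fun x => ⟨φ a x, hVF a (hRF ha) x x.2⟩)
      fun x y => Subtype.ext (map_mul (φ a) (x : G) y)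
    show ((e _ : V) : G) = _
    rw [map_prod]
    refine congrArg Subtype.val (Fintype.prod_equiv (Equiv.mulLeft (⟨a, ha⟩ : R)) _ _ fun r => ?_)
    refine Subtype.ext ?_
    show φ a (φ r (w : G)) = φ (a * r) (w : G)
    simp only [map_mul, MulAut.mul_apply]
  let d : H → V := fun h => ⟨g⁻¹ * φ h g, hg h h.2⟩
  have hd : ∀ h k : H, d (h * k) = d h * act h (d k) := fun h k => Subtype.ext (by
    show g⁻¹ * φ ((h * k : H) : A) g = g⁻¹ * φ (h : A) g * φ (h : A) (g⁻¹ * φ (k : A) g)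
    rw [coe_mul, map_mul φ, MulAut.mul_apply, map_mul, map_inv, mul_assoc, mul_inv_cancel_left])
  set v := ∏ h : H, act h (ω ((d h⁻¹)⁻¹)) with hv
  refine ⟨g * v, (mem_fixS φ).2 fun a ha => ?_, by rw [inv_mul_cancel_left]; exact v.2⟩
  -- `a v = v / d a`
  have key : act ⟨a, ha⟩ v = v * (d ⟨a, ha⟩)⁻¹ := by
    set k : H := ⟨a, ha⟩
    rw [hv, map_prod]
    rw [Fintype.prod_equiv (Equiv.mulLeft k) _ (fun h => act h (ω ((d (h⁻¹ * k))⁻¹))) fun h => by
      refine Subtype.ext ?_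
      show φ a (φ (h : A) (ω (d h⁻¹)⁻¹ : G)) = φ (a * h) (ω ((d ((k * h)⁻¹ * k))⁻¹) : G)
      rw [mul_inv_rev, inv_mul_cancel_right, map_mul, MulAut.mul_apply]]
    have e : ∀ h : H, act h (ω ((d (h⁻¹ * k))⁻¹)) =
        act h (ω ((d h⁻¹)⁻¹)) * act h (ω (act h⁻¹ (d k)⁻¹)) := fun h => by
      rw [hd, mul_inv_rev, mul_comm, map_mul ω, map_mul (act h), ← map_inv (act h⁻¹)]
    simp only [e, Finset.prod_mul_distrib, hone]
  have key' : φ a (v : G) = v * (g⁻¹ * φ a g)⁻¹ := congrArg Subtype.val key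
  rw [map_mul, key', hV.comm _ v.2 _ (inv_mem (hg a ha)), mul_inv_rev, inv_inv]
  group

/-- The kernel fixes no nontrivial coset of `V`. -/
theorem Mod.fpf_quotient {s : ℕ} {V : Subgroup G} (hV : Mod s V) {F : Subgroup A}
    (hF : Group.IsNilpotent F) (hVF : ∀ f ∈ F, ∀ v ∈ V, φ f v ∈ V)
    (hfpf : ∀ g : G, (∀ f ∈ F, φ f g = g) → g = 1) (g : G) (hg : ∀ f ∈ F, g⁻¹ * φ f g ∈ V) :
    g ∈ V := by
  haveI := Fact.mk hV.prime
  obtain ⟨R, hRF, hcop, hRn, hpow⟩ := exists_part hF s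
  have hfix := eq_one_of_part φ hV.isPGroup hVF (fun v _ h => hfpf v h)
    (fun f hf => hRn f (le_normalizer hf)) hpow
  haveI : Group.IsSolvable R := by
    haveI := hF
    exact Group.isSolvable_of_isSolvable_injective (inclusion_injective hRF)
  letI : MulDistribMulAction R G := MulDistribMulAction.compHom G (φ.comp R.subtype)
  obtain ⟨k, hk⟩ := IsPGroup.iff_card.1 hV.isPGroup
  obtain ⟨c, hc, hc'⟩ := Coprime.exists_fixed_mem_coset_of_isSolvable (A := R) V
    (fun r v hv => hVF r (hRF r.2) v hv) (hk ▸ hcop.pow_right k) g (fun r => hg r (hRF r.2))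
  have hc1 : c = 1 := hfpf c fun f hf => by
    have hdV : c⁻¹ * φ f c ∈ V := by
      have e : c⁻¹ * φ f c = (g⁻¹ * c)⁻¹ * (g⁻¹ * φ f g) * φ f (g⁻¹ * c) := by
        rw [map_mul, map_inv]; group
      rw [e]
      exact mul_mem (mul_mem (inv_mem hc') (hg f hf)) (hVF f hf _ hc')
    have hd1 := hfix _ hdV fun r hr => by
      have hr' : f⁻¹ * r * f ∈ R := by
        have := (mem_normalizer_iff.1 (inv_mem (hRn f (le_normalizer hf))) r).1 hr
        simpa using this
      have e2 : φ r (φ f c) = φ f c := by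
        calc φ r (φ f c) = φ (f * (f⁻¹ * r * f)) c := by
              rw [← MulAut.mul_apply, ← map_mul]; congr 2; group
          _ = φ f c := by
              rw [map_mul, MulAut.mul_apply, show φ (f⁻¹ * r * f) c = c from hc ⟨_, hr'⟩]
      rw [map_mul, map_inv, show φ r c = c from hc ⟨r, hr⟩, e2]
    exact (inv_mul_eq_one.1 hd1).symm
  rw [hc1, mul_one] at hc'
  simpa using inv_mem hc'

end CfsgLib.FrobFix
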